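import Groth.Agent.L27.Fppf.Main
import Groth.Agent.L27.BigSets.ProperBC

/-! # The big sheaf commutes with proper direct image -/

universe u

open CategoryTheory CategoryTheory.Limits AlgebraicGeometry Opposite

set_option autoImplicit false
set_option backward.isDefEq.respectTransparency.types false
set_option linter.style.haveILetI false

noncomputable section

namespace Groth.L27.Fppf

variable {X Y : Scheme.{u}} (f : X ⟶ Y) (F : EtCoh.Ab X)

/-- The base change of an etale scheme, as a big object. -/
def bcOver (U : Y.Etale) : (Over.pullback f).obj ((EtFppf.a Y).obj U) ⟶ (EtFppf.a X).obj ((EtCoh.bc f).obj U) :=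
  Over.homMk (pullback.lift (pullback.fst _ _) (pullback.snd _ _) pullback.condition)
    (pullback.lift_snd _ _ _)

theorem bcOver_nat {U U' : Y.Etale} (b : U' ⟶ U) :
    (Over.pullback f).map ((EtFppf.a Y).map b) ≫ bcOver f U = bcOver f U' ≫ (EtFppf.a X).map ((EtCoh.bc f).map b) := by
  refine Over.OverMorphism.ext (pullback.hom_ext ?_ ?_)
  · refine (Category.assoc _ _ _).trans ((congrArg (_ ≫ ·) (pullback.lift_fst _ _ _)).trans ?_)
    refine (pullback.lift_fst _ _ _).trans ?_
    refine Eq.trans ?_ (Category.assoc _ _ _).symm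
    refine Eq.trans ?_ (congrArg (_ ≫ ·) (EtCoh.isPullback_bc_map f b).w.symm)
    exact (congrArg (· ≫ b.left) (pullback.lift_fst (f := U'.hom) (g := f) _ _ pullback.condition).symm).trans
      (Category.assoc _ _ _)
  · refine (Category.assoc _ _ _).trans ((congrArg (_ ≫ ·) (pullback.lift_snd _ _ _)).trans ?_)
    refine (pullback.lift_snd _ _ _).trans ?_
    refine Eq.trans ?_ (Category.assoc _ _ _).symm
    refine Eq.trans ?_ (congrArg (_ ≫ ·) (MorphismProperty.Over.w ((EtCoh.bc f).map b)).symm)
    exact (pullback.lift_snd (f := U'.hom) (g := f) _ _ pullback.condition).symm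

/-- The comparison on small objects. -/
def phiSmall : ((EtCoh.push f).obj F).obj ⟶ (EtFppf.a Y).op ⋙ (Over.pullback f).op ⋙ (G F).obj where
  app U := e F (bcOver f U.unop)
  naturality U U' b := by
    refine ConcreteCategory.hom_ext _ _ fun s => ?_
    show e F (bcOver f U'.unop) (F.obj.map ((EtCoh.bc f).map b.unop).op s) =
      (G F).obj.map ((Over.pullback f).map ((EtFppf.a Y).map b.unop)).op (e F (bcOver f U.unop) s)
    rw [e_nat, e_map, bcOver_nat]

/-- The target as an etale sheaf. -/
theorem isSheaf_target : Presheaf.IsSheaf (Jet Y) ((Over.pullback f).op ⋙ (G F).obj) :=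
  fun E => Presieve.isSheaf_of_le _ Jet_le_J (((EtFppf.pushBig f).obj ⟨(G F).obj, isSheaf F⟩).property E)

/-- The comparison. -/
def Phi : (G ((EtCoh.push f).obj F)).obj ⟶ (Over.pullback f).op ⋙ (G F).obj :=
  sheafifyLift (Jet Y)
    (((EtFppf.a Y).op.lanAdjunction AddCommGrpCat.{u + 1}).homEquiv _ _ |>.symm (phiSmall f F))
    (isSheaf_target f F)

theorem Phi_e {T : Over Y} {U : Y.Etale} (c : T ⟶ (EtFppf.a Y).obj U) (s : ((EtCoh.push f).obj F).obj.obj (op U)) :
    (Phi f F).app (op T) (e ((EtCoh.push f).obj F) c s) =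
      e F ((Over.pullback f).map c ≫ bcOver f U) s := by
  let β := (((EtFppf.a Y).op.lanAdjunction AddCommGrpCat.{u + 1}).homEquiv _ _).symm (phiSmall f F)
  have h1 : (Phi f F).app (op T) (e ((EtCoh.push f).obj F) c s) = β.app (op T) (el ((EtCoh.push f).obj F) c s) :=
    (ConcreteCategory.comp_apply _ _ _).symm.trans
      (congr($(toSheafify_sheafifyLift (Jet Y) β (isSheaf_target f F)).app (op T) (el ((EtCoh.push f).obj F) c s)))
  have h2 : ((EtFppf.a Y).op.lanAdjunction AddCommGrpCat.{u + 1}).homEquiv _ _ β = phiSmall f F :=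
    Equiv.apply_symm_apply _ _
  rw [Adjunction.homEquiv_unit, Functor.lanAdjunction_unit] at h2
  rw [h1]
  refine (NatTrans.naturality_apply β c.op _).trans ?_
  refine (congrArg ((G F).obj.map ((Over.pullback f).map c).op)
    (congr($(h2).app (op U) s) :)).trans ?_
  exact e_map F _ _ _

section Small

variable {T : Scheme.{u}} (t : T ⟶ Y)

/-- The comparison of iterated base changes. -/
def bcIso (R : T.Etale) :
    (cT (pullback.snd t f)).obj ((EtCoh.bc (pullback.fst t f)).obj R) ⟶ (Over.pullback f).obj ((cT t).obj R) :=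
  Over.homMk (pullback.lift (pullback.fst R.hom (pullback.fst t f))
    (pullback.snd R.hom (pullback.fst t f) ≫ pullback.snd t f) (by
      show pullback.fst R.hom (pullback.fst t f) ≫ R.hom ≫ t = _
      rw [Category.assoc, pullback.condition_assoc, pullback.condition]; rfl))
    (pullback.lift_snd _ _ _)

theorem bcIso_nat {R R' : T.Etale} (b : R' ⟶ R) :
    (cT (pullback.snd t f)).map ((EtCoh.bc (pullback.fst t f)).map b) ≫ bcIso f t R =
      bcIso f t R' ≫ (Over.pullback f).map ((cT t).map b) := by
  refine Over.OverMorphism.ext (pullback.hom_ext ?_ ?_)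
  · refine (Category.assoc _ _ _).trans ((congrArg (_ ≫ ·) (pullback.lift_fst _ _ _)).trans ?_)
    refine ((EtCoh.isPullback_bc_map (pullback.fst t f) b).w).trans ?_
    refine Eq.trans ?_ (Category.assoc _ _ _).symm
    refine Eq.trans ?_ (congrArg (_ ≫ ·) (pullback.lift_fst _ _ _).symm)
    exact ((Category.assoc _ _ _).symm.trans (congrArg (· ≫ b.left) (pullback.lift_fst _ _ _))).symm
  · refine (Category.assoc _ _ _).trans ((congrArg (_ ≫ ·) (pullback.lift_snd _ _ _)).trans ?_)
    refine (Category.assoc _ _ _).symm.trans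
      ((congrArg (· ≫ pullback.snd t f) (MorphismProperty.Over.w ((EtCoh.bc (pullback.fst t f)).map b))).trans ?_)
    refine Eq.trans ?_ (Category.assoc _ _ _).symm
    refine Eq.trans ?_ (congrArg (_ ≫ ·) (pullback.lift_snd _ _ _).symm)
    exact (pullback.lift_snd _ _ _).symm

/-- The comparison on the small site of `T`. -/
def chiT : GT t ((EtCoh.push f).obj F) ⟶ (EtCoh.push (pullback.fst t f)).obj (GT (pullback.snd t f) F) :=
  ⟨{ app := fun R => (Phi f F).app (op ((cT t).obj R.unop)) ≫ (G F).obj.map (bcIso f t R.unop).op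
     naturality := fun R R' b => by
       refine ConcreteCategory.hom_ext _ _ fun x => ?_
       show (G F).obj.map (bcIso f t R'.unop).op ((Phi f F).app (op ((cT t).obj R'.unop))
           ((G ((EtCoh.push f).obj F)).obj.map ((cT t).map b.unop).op x)) =
         (G F).obj.map ((cT (pullback.snd t f)).map ((EtCoh.bc (pullback.fst t f)).map b.unop)).op
           ((G F).obj.map (bcIso f t R.unop).op ((Phi f F).app (op ((cT t).obj R.unop)) x))
       rw [map_comp', bcIso_nat, ← map_comp']
       exact congrArg _ (NatTrans.naturality_apply (Phi f F) ((cT t).map b.unop).op x) }⟩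

theorem theta_chiT :
    theta t ((EtCoh.push f).obj F) ≫ chiT f F t =
      EtCoh.baseChange0 f t (pullback.fst t f) (pullback.snd t f) (IsPullback.of_hasPullback t f).flip.w F ≫
        (EtCoh.push (pullback.fst t f)).map (theta (pullback.snd t f) F) := by
  apply ((EtCoh.pullPushAdj t).homEquiv _ _).injective
  rw [Adjunction.homEquiv_naturality_right, Adjunction.homEquiv_naturality_right]
  refine Sheaf.hom_ext (NatTrans.ext (funext fun V => ConcreteCategory.hom_ext _ _ fun s => ?_))
  have hb : (((EtCoh.pullPushAdj t).homEquiv _ _)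
      (EtCoh.baseChange0 f t (pullback.fst t f) (pullback.snd t f) (IsPullback.of_hasPullback t f).flip.w F)).hom.app V s =
      EtSite.BC.psi (IsPullback.of_hasPullback t f).flip F V.unop s := by
    rw [EtCoh.baseChange0, Equiv.apply_symm_apply, EtSite.BC.psi,
      ← EtSite.BC.swap_eq (IsPullback.of_hasPullback t f).flip.w V.unop]
    exact EtSite.BC.map_map_map ((EtCoh.pull (pullback.snd t f)).obj F).obj _ _ _ _
  show (chiT f F t).hom.app (op ((EtCoh.bc t).obj V.unop))
      ((((EtCoh.pullPushAdj t).homEquiv _ _) (theta t ((EtCoh.push f).obj F))).hom.app V s) =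
    (theta (pullback.snd t f) F).hom.app (op ((EtCoh.bc (pullback.fst t f)).obj ((EtCoh.bc t).obj V.unop)))
      ((((EtCoh.pullPushAdj t).homEquiv _ _)
        (EtCoh.baseChange0 f t (pullback.fst t f) (pullback.snd t f) (IsPullback.of_hasPullback t f).flip.w F)).hom.app V s)
  rw [hb, show ((EtCoh.pullPushAdj t).homEquiv _ _) (theta t ((EtCoh.push f).obj F)) = phi t ((EtCoh.push f).obj F) from
    Equiv.apply_symm_apply _ _]
  refine ((congrArg ((G F).obj.map (bcIso f t ((EtCoh.bc t).obj V.unop)).op) (Phi_e f F (pr t V.unop) s)).trans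
    (e_map F _ _ _)).trans ?_
  refine Eq.trans ?_ (theta_map_eta (pullback.snd t f) F _ s).symm
  refine congrArg (fun k => e F k s) (Over.OverMorphism.ext (pullback.hom_ext ?_ ?_))
  · refine ((Category.assoc _ _ _).trans (congrArg (_ ≫ ·) ((Category.assoc _ _ _).trans
      ((congrArg (_ ≫ ·) (pullback.lift_fst _ _ _)).trans (pullback.lift_fst _ _ _))))).trans ?_
    refine ((Category.assoc _ _ _).symm.trans (congrArg (· ≫ _) (pullback.lift_fst _ _ _))).trans ?_
    exact ((congrArg (· ≫ _) (pullback.lift_fst _ _ _)).trans (pullback.lift_fst _ _ _)).symm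
  · refine ((Category.assoc _ _ _).trans (congrArg (_ ≫ ·) ((Category.assoc _ _ _).trans
      ((congrArg (_ ≫ ·) (pullback.lift_snd _ _ _)).trans (pullback.lift_snd _ _ _))))).trans ?_
    refine (pullback.lift_snd _ _ _).trans ?_
    exact ((congrArg (· ≫ _) (pullback.lift_fst _ _ _)).trans (pullback.lift_snd _ _ _)).symm

theorem bijective_Phi [IsProper f] : Function.Bijective ((Phi f F).app (op (Over.mk t))) := by
  haveI := BigSets.isIso_baseChange0 (IsPullback.of_hasPullback t f).flip F
  haveI := isIso_theta t ((EtCoh.push f).obj F)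
  haveI := isIso_theta (pullback.snd t f) F
  haveI : IsIso (theta t ((EtCoh.push f).obj F) ≫ chiT f F t) := theta_chiT f F t ▸ inferInstance
  haveI : IsIso (chiT f F t) := IsIso.of_isIso_comp_left (theta t ((EtCoh.push f).obj F)) _
  let i : (cT t).obj (EtCoh.top T) ≅ Over.mk t := Over.isoMk (Iso.refl _) rfl
  have h2 : Function.Bijective (((Phi f F).app (op ((cT t).obj (EtCoh.top T))))) := by
    obtain ⟨κ, hκ⟩ : ∃ κ, κ ≫ bcIso f t (EtCoh.top T) = 𝟙 _ := by
      let P := (Over.pullback f).obj ((cT t).obj (EtCoh.top T))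
      refine ⟨Over.homMk (pullback.lift (pullback.fst _ f) (pullback.lift (pullback.fst _ f) (pullback.snd _ f)
        ((whisker_eq _ (Category.id_comp t)).symm.trans pullback.condition))
        ((Category.comp_id _).trans (pullback.lift_fst _ _ _).symm)) ?_, Over.OverMorphism.ext ?_⟩
      · exact ((Category.assoc _ _ _).symm.trans (eq_whisker (pullback.lift_snd _ _ _) _)).trans (pullback.lift_snd _ _ _)
      · refine pullback.hom_ext ?_ ?_
        · exact ((Category.assoc _ _ _).trans ((congrArg (_ ≫ ·) (pullback.lift_fst _ _ _)).trans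
            (pullback.lift_fst _ _ _))).trans (Category.id_comp _).symm
        · exact ((Category.assoc _ _ _).trans ((congrArg (_ ≫ ·) (pullback.lift_snd _ _ _)).trans
            (((Category.assoc _ _ _).symm.trans (congrArg (· ≫ _) (pullback.lift_snd _ _ _))).trans
            (pullback.lift_snd _ _ _)))).trans (Category.id_comp _).symm
    have hb := ConcreteCategory.bijective_of_isIso (((sheafToPresheaf _ _).map (chiT f F t)).app (op (EtCoh.top T)))
    refine ⟨fun x x' h => hb.1 (congrArg ((G F).obj.map (bcIso f t (EtCoh.top T)).op) h), fun y => ?_⟩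
    obtain ⟨x, hx⟩ := hb.2 ((G F).obj.map (bcIso f t (EtCoh.top T)).op y)
    refine ⟨x, ?_⟩
    have hx' := congrArg ((G F).obj.map κ.op) hx
    have hk : ∀ z, (G F).obj.map κ.op ((G F).obj.map (bcIso f t (EtCoh.top T)).op z) = z := fun z => by
      rw [map_comp', hκ, op_id, CategoryTheory.Functor.map_id]
      rfl
    exact (hk _).symm.trans (hx'.trans (hk _))
  haveI : IsIso ((Phi f F).app (op ((cT t).obj (EtCoh.top T)))) := (ConcreteCategory.isIso_iff_bijective _).2 h2
  have e := (Phi f F).naturality i.hom.op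
  haveI : IsIso ((Phi f F).app (op (Over.mk t))) := by
    have : (Phi f F).app (op (Over.mk t)) = (G ((EtCoh.push f).obj F)).obj.map i.hom.op ≫
        (Phi f F).app (op ((cT t).obj (EtCoh.top T))) ≫ inv (((Over.pullback f).op ⋙ (G F).obj).map i.hom.op) := by
      rw [← Category.assoc, e, Category.assoc, IsIso.hom_inv_id, Category.comp_id]
    rw [this]; infer_instance
  exact ConcreteCategory.bijective_of_isIso _

end Small

theorem nonempty_aPull_push [IsProper f] [EtFppf.ACont X] [EtFppf.ACont Y] :
    Nonempty ((EtFppf.aPull Y).obj ((EtCoh.push f).obj F) ≅ (EtFppf.pushBig f).obj ((EtFppf.aPull X).obj F)) := by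
  obtain ⟨α⟩ := nonempty_aPull_iso ((EtCoh.push f).obj F)
  obtain ⟨β⟩ := nonempty_aPull_iso F
  haveI : ∀ T, IsIso ((Phi f F).app T) := fun T => by
    obtain ⟨⟨T₀, ⟨⟩, t⟩⟩ := T
    exact (ConcreteCategory.isIso_iff_bijective _).2 (bijective_Phi f F t)
  have hΦ : IsIso (Phi f F) := NatIso.isIso_of_isIso_app _
  exact ⟨α ≪≫ (fullyFaithfulSheafToPresheaf _ _).preimageIso
    (X := GJ ((EtCoh.push f).obj F)) (Y := (EtFppf.pushBig f).obj (GJ F)) (@asIso _ _ _ _ (Phi f F) hΦ) ≪≫
    (EtFppf.pushBig f).mapIso β.symm⟩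

end Groth.L27.Fppf
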