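import Groth.Prelude.Def_EtFppf
import Mathlib.CategoryTheory.Functor.Flat
import Mathlib.CategoryTheory.Sites.LocallyBijective
import Mathlib.CategoryTheory.Functor.KanExtension.Adjunction
import Mathlib.Algebra.Category.Grp.FilteredColimits

/-! # The big etale sheaf attached to a sheaf on the small etale site -/

universe u

open CategoryTheory CategoryTheory.Limits AlgebraicGeometry Opposite

set_option backward.isDefEq.respectTransparency.types false
set_option linter.style.haveILetI false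

namespace Groth.L27.Fppf

variable {S : Scheme.{u}}

/-- The etale topology on `Over S`. -/
noncomputable abbrev Jet (S : Scheme.{u}) : GrothendieckTopology (Over S) :=
  Scheme.overGrothendieckTopology EtCoh.etaleMP.{u} S

theorem mem_grothendieck {P : MorphismProperty Scheme.{u}} [P.IsStableUnderBaseChange] [P.IsMultiplicative]
    {T : Over S} {R : Sieve T} :
    R ∈ (Scheme.grothendieckTopology P).over S T ↔
      ∀ t : T.left, ∃ (Y : Over S) (g : Y ⟶ T) (y : Y.left), R g ∧ P g.left ∧ g.left y = t := by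
  rw [GrothendieckTopology.mem_over_iff, Scheme.mem_grothendieckTopology_iff]
  constructor
  · rintro ⟨𝒰, hle⟩ t
    obtain ⟨y, hy⟩ := 𝒰.covers t
    let g : Over.mk (𝒰.f (𝒰.idx t) ≫ T.hom) ⟶ T := Over.homMk (𝒰.f (𝒰.idx t)) rfl
    exact ⟨_, g, y, (Sieve.overEquiv_iff R _).1 (hle _ _ ⟨_⟩), 𝒰.map_prop _, hy⟩
  · intro h
    choose Z k z hR hP hz using h
    refine ⟨Scheme.Cover.mkOfCovers T.left (fun t => (Z t).left) (fun t => (k t).left) (fun t => ⟨t, z t, hz t⟩) hP, ?_⟩
    rintro W m ⟨t⟩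
    refine (Sieve.overEquiv_iff R _).2 ?_
    let i : Over.mk ((k t).left ≫ T.hom) ⟶ Z t := Over.homMk (𝟙 _)
      ((Category.id_comp _).trans (Over.w (k t)).symm)
    have hh : R (i ≫ k t) := R.downward_closed (hR t) i
    have he : (Over.homMk ((k t).left) rfl : Over.mk ((k t).left ≫ T.hom) ⟶ T) = i ≫ k t :=
      Over.OverMorphism.ext (Category.id_comp _).symm
    exact he.symm ▸ hh

theorem mem_Jet {T : Over S} {R : Sieve T} :
    R ∈ Jet S T ↔ ∀ t : T.left, ∃ (Y : Over S) (g : Y ⟶ T) (y : Y.left),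
      R g ∧ AlgebraicGeometry.Etale g.left ∧ g.left y = t :=
  mem_grothendieck (P := EtCoh.etaleMP.{u})

instance : (@Flat ⊓ @LocallyOfFinitePresentation : MorphismProperty Scheme.{u}).IsMultiplicative where
  id_mem X := ⟨inferInstance, inferInstance⟩
  comp_mem f g hf hg := ⟨MorphismProperty.comp_mem _ f g hf.1 hg.1, MorphismProperty.comp_mem _ f g hf.2 hg.2⟩

theorem mem_J {T : Over S} {R : Sieve T} :
    R ∈ EtFppf.J S T ↔ ∀ t : T.left, ∃ (Y : Over S) (g : Y ⟶ T) (y : Y.left),
      R g ∧ (Flat g.left ∧ LocallyOfFinitePresentation g.left) ∧ g.left y = t :=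
  mem_grothendieck (P := @Flat ⊓ @LocallyOfFinitePresentation)

theorem Jet_le_J : Jet S ≤ EtFppf.J S := by
  intro T R hR
  refine mem_J.2 fun t => ?_
  obtain ⟨Y, g, y, h1, h2, h3⟩ := mem_Jet.1 hR t
  exact ⟨Y, g, y, h1, ⟨inferInstance, inferInstance⟩, h3⟩

section Lan

instance : PreservesFiniteLimits (EtFppf.a S) :=
  inferInstanceAs (PreservesFiniteLimits (Scheme.Etale.forget S))

instance : RepresentablyFlat (EtFppf.a S) := flat_of_preservesFiniteLimits _

variable (F : EtCoh.Ab S)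

/-- The presheaf pullback to the big site. -/
noncomputable abbrev L : (Over S)ᵒᵖ ⥤ AddCommGrpCat.{u + 1} := (EtFppf.a S).op.lan.obj F.obj

/-- Elements of the presheaf pullback. -/
noncomputable def el {T : Over S} {U : S.Etale} (c : T ⟶ (EtFppf.a S).obj U) :
    F.obj.obj (op U) ⟶ (L F).obj (op T) :=
  ((EtFppf.a S).op.lanUnit.app F.obj).app (op U) ≫ (L F).map c.op

theorem el_map {T T' : Over S} (g : T' ⟶ T) {U : S.Etale} (c : T ⟶ (EtFppf.a S).obj U) (s : F.obj.obj (op U)) :
    (L F).map g.op (el F c s) = el F (g ≫ c) s :=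
  (Functor.map_comp_apply (L F) c.op g.op _).symm

theorem el_nat {T : Over S} {U U' : S.Etale} (b : U' ⟶ U) (c : T ⟶ (EtFppf.a S).obj U') (s : F.obj.obj (op U)) :
    el F c (F.obj.map b.op s) = el F (c ≫ (EtFppf.a S).map b) s := by
  rw [← el_map]
  exact congrArg ((L F).map c.op) (NatTrans.naturality_apply ((EtFppf.a S).op.lanUnit.app F.obj) b.op s)

instance (J : Type (u + 1)) [Category.{u} J] [IsFiltered J] :
    PreservesColimitsOfShape J (forget AddCommGrpCat.{u + 1}) := by
  haveI : IsFiltered (AsSmall.{u + 1} J) := IsFiltered.of_equivalence AsSmall.equiv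
  exact preservesColimitsOfShape_of_equiv AsSmall.equiv.symm _

theorem el_surj {T : Over S} (z : (L F).obj (op T)) :
    ∃ (U : S.Etale) (c : T ⟶ (EtFppf.a S).obj U) (s : F.obj.obj (op U)), el F c s = z := by
  have hpt := Functor.isPointwiseLeftKanExtensionOfIsLeftKanExtension (L F)
    ((EtFppf.a S).op.lanUnit.app F.obj) (op T)
  obtain ⟨g, s, rfl⟩ := Concrete.isColimit_exists_rep _ hpt z
  exact ⟨g.left.unop, g.hom.unop, s, rfl⟩

theorem el_eq_zero {T : Over S} {U : S.Etale} (c : T ⟶ (EtFppf.a S).obj U) (s : F.obj.obj (op U))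
    (h : el F c s = 0) :
    ∃ (U' : S.Etale) (b : U' ⟶ U) (c' : T ⟶ (EtFppf.a S).obj U'),
      c' ≫ (EtFppf.a S).map b = c ∧ F.obj.map b.op s = 0 := by
  have hpt := Functor.isPointwiseLeftKanExtensionOfIsLeftKanExtension (L F)
    ((EtFppf.a S).op.lanUnit.app F.obj) (op T)
  obtain ⟨j, g, g', hg⟩ := (Concrete.isColimit_rep_eq_iff_exists _ (i := CostructuredArrow.mk (S := (EtFppf.a S).op) c.op)
    (j := CostructuredArrow.mk (S := (EtFppf.a S).op) c.op) hpt s (0 : F.obj.obj (op U))).mp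
    (h.trans (map_zero (el F c).hom).symm)
  exact ⟨j.left.unop, g.left.unop, j.hom.unop, congrArg Quiver.Hom.unop (CostructuredArrow.w g),
    hg.trans (map_zero (F.obj.map g'.left).hom)⟩

end Lan

section Sheafified

variable (F : EtCoh.Ab S)

/-- The big etale sheaf attached to `F`. -/
noncomputable abbrev G : Sheaf (Jet S) AddCommGrpCat.{u + 1} :=
  (presheafToSheaf (Jet S) AddCommGrpCat.{u + 1}).obj (L F)

/-- The section of the big sheaf given by a map to an etale scheme and a section there. -/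
noncomputable def e {T : Over S} {U : S.Etale} (c : T ⟶ (EtFppf.a S).obj U) :
    F.obj.obj (op U) ⟶ (G F).obj.obj (op T) :=
  el F c ≫ (toSheafify (Jet S) (L F)).app (op T)

theorem e_map {T T' : Over S} (g : T' ⟶ T) {U : S.Etale} (c : T ⟶ (EtFppf.a S).obj U) (s : F.obj.obj (op U)) :
    (G F).obj.map g.op (e F c s) = e F (g ≫ c) s :=
  (NatTrans.naturality_apply (toSheafify (Jet S) (L F)) g.op _).symm.trans
    (congrArg ((toSheafify (Jet S) (L F)).app (op T')) (el_map F g c s))

theorem e_nat {T : Over S} {U U' : S.Etale} (b : U' ⟶ U) (c : T ⟶ (EtFppf.a S).obj U') (s : F.obj.obj (op U)) :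
    e F c (F.obj.map b.op s) = e F (c ≫ (EtFppf.a S).map b) s :=
  congrArg ((toSheafify (Jet S) (L F)).app (op T)) (el_nat F b c s)

theorem exists_e {T : Over S} (x : (G F).obj.obj (op T)) (t : T.left) :
    ∃ (T' : Over S) (g : T' ⟶ T) (t' : T'.left) (U : S.Etale) (c : T' ⟶ (EtFppf.a S).obj U)
      (s : F.obj.obj (op U)), AlgebraicGeometry.Etale g.left ∧ g.left t' = t ∧
        (G F).obj.map g.op x = e F c s := by
  obtain ⟨T', g, t', ⟨z, hz⟩, hg, ht⟩ :=
    mem_Jet.1 (Presheaf.imageSieve_mem (Jet S) (toSheafify (Jet S) (L F)) x) t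
  obtain ⟨U, c, s, rfl⟩ := el_surj F z
  exact ⟨T', g, t', U, c, s, hg, ht, hz.symm⟩

theorem e_eq_zero {T : Over S} {U : S.Etale} (c : T ⟶ (EtFppf.a S).obj U) (s : F.obj.obj (op U))
    (h : e F c s = 0) (t : T.left) :
    ∃ (T' : Over S) (g : T' ⟶ T) (t' : T'.left) (U' : S.Etale) (b : U' ⟶ U) (c' : T' ⟶ (EtFppf.a S).obj U'),
      AlgebraicGeometry.Etale g.left ∧ g.left t' = t ∧ c' ≫ (EtFppf.a S).map b = g ≫ c ∧
        F.obj.map b.op s = 0 := by
  obtain ⟨T', g, t', hz, hg, ht⟩ := mem_Jet.1 (Presheaf.equalizerSieve_mem (Jet S) (toSheafify (Jet S) (L F))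
    (el F c s) 0 (h.trans (map_zero ((toSheafify (Jet S) (L F)).app (op T)).hom).symm)) t
  have hz' : el F (g ≫ c) s = 0 :=
    (el_map F g c s).symm.trans (hz.trans (map_zero ((L F).map g.op).hom))
  obtain ⟨U', b, c', hc', hs⟩ := el_eq_zero F _ s hz'
  exact ⟨T', g, t', U', b, c', hg, ht, hc', hs⟩

/-- A section vanishing near every point is zero. -/
theorem eq_zero_of_locally {T : Over S} (x : (G F).obj.obj (op T))
    (h : ∀ t : T.left, ∃ (T' : Over S) (g : T' ⟶ T) (t' : T'.left),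
      AlgebraicGeometry.Etale g.left ∧ g.left t' = t ∧ (G F).obj.map g.op x = 0) : x = 0 := by
  let R : Sieve T :=
    { arrows := fun T' g => (G F).obj.map g.op x = 0
      downward_closed := fun {Y Z g} hg k => by
        show (G F).obj.map (k ≫ g).op x = 0
        rw [op_comp, Functor.map_comp, ConcreteCategory.comp_apply, hg, map_zero] }
  refine Sheaf.isSeparated (G F) T R (mem_Jet.2 fun t => ?_) x 0 fun T' g hg => hg.trans (map_zero _).symm
  obtain ⟨T', g, t', h1, h2, h3⟩ := h t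
  exact ⟨T', g, t', h3, h1, h2⟩

end Sheafified

end Groth.L27.Fppf
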