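import Groth.Agent.L27.Fppf.Descent
import Groth.Agent.L27.EtSite.EtaLocal

/-! # The big sheaf restricted to a small etale site is the inverse image -/

universe u

open CategoryTheory CategoryTheory.Limits AlgebraicGeometry Opposite

set_option backward.isDefEq.respectTransparency.types false
set_option linter.style.haveILetI false

namespace Groth.L27.Fppf

variable {S T : Scheme.{u}} (f : T ⟶ S)

/-- An etale `T`-scheme as an `S`-scheme. -/
noncomputable abbrev cT : T.Etale ⥤ Over S := EtFppf.a T ⋙ Over.map f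

theorem compatiblePreserving_cT :
    ((EtFppf.a T ⋙ Over.map f)).IsContinuous T.smallEtaleTopology (Jet S) := by
  haveI : (EtFppf.a T).LocallyCoverDense (Jet T) := Scheme.locallyCoverDense_of_le T le_rfl
  haveI : (EtFppf.a T).Full := inferInstanceAs (Scheme.Etale.forget T).Full
  haveI : (EtFppf.a T).Faithful := inferInstanceAs (Scheme.Etale.forget T).Faithful
  haveI : (EtFppf.a T).IsContinuous T.smallEtaleTopology (Jet T) :=
    Functor.isContinuous_of_coverPreserving (compatiblePreservingOfFlat _ _)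
      ((EtFppf.a T).coverPreserving_restrictedTopology (Jet T))
  haveI : (Over.map f).IsContinuous (Jet T) (Jet S) :=
    inferInstanceAs ((Over.map f).IsContinuous ((Scheme.grothendieckTopology EtCoh.etaleMP.{u}).over T)
      ((Scheme.grothendieckTopology EtCoh.etaleMP.{u}).over S))
  exact Functor.isContinuous_comp (EtFppf.a T) (Over.map f) T.smallEtaleTopology (Jet T) (Jet S)

variable (F : EtCoh.Ab S)

/-- The restriction of the big sheaf to the small etale site of `T`. -/
noncomputable abbrev GT : EtCoh.Ab T :=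
  haveI := compatiblePreserving_cT f
  ((cT f).sheafPushforwardContinuous AddCommGrpCat.{u + 1} T.smallEtaleTopology (Jet S)).obj (G F)

/-- The map from a base change to the etale `S`-scheme. -/
noncomputable def pr (U : S.Etale) : (cT f).obj ((EtCoh.bc f).obj U) ⟶ (EtFppf.a S).obj U :=
  Over.homMk (pullback.fst U.hom f) pullback.condition

theorem pr_naturality {U U' : S.Etale} (b : U' ⟶ U) :
    (cT f).map ((EtCoh.bc f).map b) ≫ pr f U = pr f U' ≫ (EtFppf.a S).map b :=
  Over.OverMorphism.ext (EtCoh.isPullback_bc_map f b).w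

/-- The map `F ⟶ f_* (G|T)`. -/
noncomputable def phi : F ⟶ (EtCoh.push f).obj (GT f F) :=
  ⟨{ app := fun U => e F (pr f U.unop)
     naturality := fun U U' b => by
       refine ConcreteCategory.hom_ext _ _ fun s => ?_
       show e F (pr f U'.unop) (F.obj.map b.unop.op s) =
         (G F).obj.map ((cT f).map ((EtCoh.bc f).map b.unop)).op (e F (pr f U.unop) s)
       rw [e_nat, e_map, pr_naturality] }⟩

/-- The comparison map. -/
noncomputable def theta : (EtCoh.pull f).obj F ⟶ GT f F :=
  ((EtCoh.pullPushAdj f).homEquiv F (GT f F)).symm (phi f F)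

theorem theta_eta (U : S.Etale) (s : F.obj.obj (op U)) :
    (theta f F).hom.app (op ((EtCoh.bc f).obj U))
      (((EtCoh.pullPushAdj f).unit.app F).hom.app (op U) s) = e F (pr f U) s := by
  have h := ((EtCoh.pullPushAdj f).homEquiv F (GT f F)).apply_symm_apply (phi f F)
  rw [Adjunction.homEquiv_unit] at h
  exact congrArg (fun z : F ⟶ (EtCoh.push f).obj (GT f F) => z.hom.app (op U) s) h

theorem theta_map_eta {Q : T.Etale} {U : S.Etale} (r : Q ⟶ (EtCoh.bc f).obj U) (s : F.obj.obj (op U)) :
    (theta f F).hom.app (op Q) (((EtCoh.pull f).obj F).obj.map r.op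
      (((EtCoh.pullPushAdj f).unit.app F).hom.app (op U) s)) = e F ((cT f).map r ≫ pr f U) s := by
  refine (NatTrans.naturality_apply (theta f F).hom r.op _).trans ?_
  exact (congrArg ((GT f F).obj.map r.op) (theta_eta f F U s)).trans (e_map F _ _ _)

theorem exists_local' {V : S.Etale} {Q : T.Etale} (c : Q ⟶ (EtCoh.bc f).obj V)
    (t : ((EtCoh.pull f).obj F).obj.obj (op Q)) (q : Q.left) :
    ∃ (W : S.Etale) (a : W ⟶ V) (Q' : T.Etale) (d : Q' ⟶ Q) (i : Q' ⟶ (EtCoh.bc f).obj W) (q' : Q'.left)
      (s : F.obj.obj (op W)), d.left q' = q ∧ i ≫ (EtCoh.bc f).map a = d ≫ c ∧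
        ((EtCoh.pull f).obj F).obj.map d.op t = ((EtCoh.pull f).obj F).obj.map i.op
          (((EtCoh.pullPushAdj f).unit.app F).hom.app (op W) s) :=
  EtSite.EtaLocal.exists_local f F c t q

/-- An etale `S`-morphism into `cT Q` comes from the small etale site of `T`. -/
theorem exists_lift {Q : T.Etale} {T' : Over S} (g : T' ⟶ (cT f).obj Q) [AlgebraicGeometry.Etale g.left] :
    ∃ (R : T.Etale) (k : R ⟶ Q) (j : (cT f).obj R ⟶ T') (_ : R.left = T'.left),
      j ≫ g = (cT f).map k ∧ ∀ t : T'.left, ∃ r : R.left, j.left r = t := by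
  haveI : AlgebraicGeometry.Etale Q.hom := Q.prop
  let gl : T'.left ⟶ Q.left := g.left
  haveI : AlgebraicGeometry.Etale gl := ‹AlgebraicGeometry.Etale g.left›
  refine ⟨Scheme.Etale.mk (gl ≫ Q.hom), MorphismProperty.Over.homMk gl rfl,
    Over.homMk (𝟙 T'.left) ((Category.id_comp _).trans ((Over.w g).symm.trans (Category.assoc _ _ _).symm)),
    rfl, Over.OverMorphism.ext (Category.id_comp _), fun t => ⟨t, rfl⟩⟩

/-- Morphisms to the base change from `S`-morphisms. -/
noncomputable def sect {R : T.Etale} {U : S.Etale} (c : (cT f).obj R ⟶ (EtFppf.a S).obj U) :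
    R ⟶ (EtCoh.bc f).obj U :=
  MorphismProperty.Over.homMk (pullback.lift c.left R.hom (Over.w c)) (pullback.lift_snd _ _ _)

theorem sect_pr {R : T.Etale} {U : S.Etale} (c : (cT f).obj R ⟶ (EtFppf.a S).obj U) :
    (cT f).map (sect f c) ≫ pr f U = c :=
  Over.OverMorphism.ext (pullback.lift_fst _ _ _)

theorem sect_bc {R : T.Etale} {U U' : S.Etale} (b : U' ⟶ U) (c : (cT f).obj R ⟶ (EtFppf.a S).obj U')
    (m : R ⟶ (EtCoh.bc f).obj U) (h : (cT f).map m ≫ pr f U = c ≫ (EtFppf.a S).map b) :
    sect f c ≫ (EtCoh.bc f).map b = m := by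
  refine MorphismProperty.Over.Hom.ext (pullback.hom_ext ?_ ?_)
  · refine (Category.assoc _ _ _).trans ((congrArg (_ ≫ ·) (EtCoh.isPullback_bc_map f b).w).trans ?_)
    refine (Category.assoc _ _ _).symm.trans ((congrArg (· ≫ b.left) (pullback.lift_fst _ _ _)).trans ?_)
    exact (congrArg (fun z => z.left) h).symm
  · exact (MorphismProperty.Over.w (sect f c ≫ (EtCoh.bc f).map b)).trans (MorphismProperty.Over.w m).symm

theorem isIso_theta : IsIso (theta f F) := by
  have h1 : Sheaf.IsLocallyInjective (theta f F) := by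
    refine ⟨fun {Q} x y hxy => ?_⟩
    refine (EtSite.mem_topology_iff _).2 fun q => ?_
    obtain ⟨W, -, Q', d, i, q', s, hd, -, hi⟩ := exists_local' f F ((EtCore.bcTopIsTerminal f).from Q.unop) (x - y) q
    have h0 : e F ((cT f).map i ≫ pr f W) s = 0 := by
      rw [← theta_map_eta, ← hi, NatTrans.naturality_apply (theta f F).hom d.op,
        map_sub, show (theta f F).hom.app (op Q.unop) x = (theta f F).hom.app (op Q.unop) y from hxy, sub_self,
        map_zero]
      rfl
    obtain ⟨T', g, t', U', b, c', hg, ht, hc, hs⟩ := e_eq_zero F _ s h0 q'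
    obtain ⟨R, k, j, -, hjk, hsurj⟩ := exists_lift f g
    obtain ⟨r, hr⟩ := hsurj t'
    refine ⟨R, k ≫ d, r, ?_, ?_⟩
    · show ((EtCoh.pull f).obj F).obj.map (k ≫ d).op x = ((EtCoh.pull f).obj F).obj.map (k ≫ d).op y
      rw [← sub_eq_zero, ← map_sub, op_comp, Functor.map_comp, ConcreteCategory.comp_apply, hi,
        ← ConcreteCategory.comp_apply, ← Functor.map_comp, ← op_comp,
        ← sect_bc f b (j ≫ c') (k ≫ i) (by
          rw [Category.assoc, hc, ← Category.assoc j, hjk, Functor.map_comp, Category.assoc]),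
        op_comp, Functor.map_comp, ConcreteCategory.comp_apply]
      refine (congrArg _ (NatTrans.naturality_apply ((EtCoh.pullPushAdj f).unit.app F).hom b.op s).symm).trans ?_
      exact (congrArg _ ((congrArg _ hs).trans (map_zero _))).trans (map_zero _)
    · refine (Scheme.Hom.comp_apply _ _ _).trans ((congrArg d.left ?_).trans hd)
      refine Eq.trans ?_ ((congrArg g.left hr).trans ht)
      exact (congrArg (fun z : (cT f).obj R ⟶ _ => z.left r) hjk).symm.trans (Scheme.Hom.comp_apply _ _ _)
  have h2 : Sheaf.IsLocallySurjective (theta f F) := by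
    refine ⟨fun {Q} x => ?_⟩
    refine (EtSite.mem_topology_iff _).2 fun q => ?_
    obtain ⟨T', g, t', U, c, s, hg, ht, hs⟩ := exists_e F (T := (cT f).obj Q) x q
    obtain ⟨R, k, j, -, hjk, hsurj⟩ := exists_lift f g
    obtain ⟨r, hr⟩ := hsurj t'
    refine ⟨R, k, r, ⟨((EtCoh.pull f).obj F).obj.map (sect f (j ≫ c)).op
      (((EtCoh.pullPushAdj f).unit.app F).hom.app (op U) s), ?_⟩, ?_⟩
    · refine (theta_map_eta f F _ s).trans ?_
      rw [sect_pr, ← e_map, ← hs, map_comp', hjk]
      rfl
    · refine Eq.trans ?_ ((congrArg g.left hr).trans ht)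
      exact (congrArg (fun z : (cT f).obj R ⟶ _ => z.left r) hjk).symm.trans (Scheme.Hom.comp_apply _ _ _)
  haveI := h1
  haveI := h2
  haveI : Mono (theta f F) := Sheaf.mono_of_isLocallyInjective _
  haveI : Epi (theta f F) := (Sheaf.isLocallySurjective_iff_epi' (φ := theta f F)).1 h2
  exact isIso_of_mono_of_epi _

end Groth.L27.Fppf
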