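import Groth.Agent.L27.Fppf.Submersive
import Mathlib.AlgebraicGeometry.Sites.Proetale
import Mathlib.AlgebraicGeometry.Morphisms.Flat

/-! # Pro-etale coverings are submersive -/

universe u

open CategoryTheory CategoryTheory.Limits AlgebraicGeometry Opposite

set_option backward.isDefEq.respectTransparency.types false
set_option linter.style.haveILetI false

namespace Groth.L27.Fppf

/-- Quasi-compact flat covers detect open sets. -/
theorem isOpen_of_qcCover {T : Scheme.{u}} (𝒰 : PreZeroHypercover.{u + 1} T) [QuasiCompactCover 𝒰]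
    (hflat : ∀ i, Flat (𝒰.f i)) (W : Set T) (hW : ∀ i, IsOpen ((𝒰.f i) ⁻¹' W)) : IsOpen W := by
  rw [← Set.inter_univ W]
  suffices ∀ U : T.affineOpens, IsOpen (W ∩ (U : T.Opens)) by
    refine isOpen_iff_forall_mem_open.2 fun t ht => ?_
    obtain ⟨U, hU, htU, -⟩ := TopologicalSpace.Opens.isBasis_iff_nbhd.mp T.isBasis_affineOpens
      (U := ⊤) (x := t) trivial
    exact ⟨W ∩ U, fun z hz => ⟨hz.1, trivial⟩, this ⟨U, hU⟩, ht.1, htU⟩
  rintro ⟨U, hU⟩
  haveI : IsAffine U.toScheme := hU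
  obtain ⟨n, a, V, hV, hUV⟩ := QuasiCompactCover.exists_isAffineOpen_of_isCompact 𝒰 hU.isCompact
  let ι : Type u := ULift.{u} (Fin n)
  haveI : ∀ j : ι, IsAffine (V j.down).toScheme := fun j => hV j.down
  have hr : ∀ j : ι, Set.range ((V j.down).ι ≫ 𝒰.f (a j.down)) ⊆ Set.range U.ι := by
    intro j
    rintro _ ⟨v, rfl⟩
    refine (Scheme.Opens.range_ι U).ge ?_
    show _ ∈ (U : Set T)
    rw [← hUV]
    exact Set.mem_iUnion.2 ⟨j.down, ⟨(V j.down).ι v, v.2, (Scheme.Hom.comp_apply _ _ _).symm⟩⟩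
  let p : ∀ j : ι, (V j.down).toScheme ⟶ U.toScheme := fun j => IsOpenImmersion.lift U.ι _ (hr j)
  have hp : ∀ j : ι, p j ≫ U.ι = (V j.down).ι ≫ 𝒰.f (a j.down) := fun j => IsOpenImmersion.lift_fac _ _ _
  let q : (∐ fun j : ι => (V j.down).toScheme) ⟶ U.toScheme := Sigma.desc p
  haveI : Flat q := IsZariskiLocalAtSource.sigmaDesc (P := @Flat) fun j => by
    have h1 : Flat ((V j.down).ι ≫ 𝒰.f (a j.down)) := by
      have := hflat (a j.down)
      infer_instance
    rw [← hp] at h1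
    exact MorphismProperty.of_postcomp (W := @Flat) (W' := @IsOpenImmersion) (p j) U.ι inferInstance h1
  haveI : Surjective q := ⟨fun x => by
    have hx : U.ι x ∈ ⋃ j, 𝒰.f (a j) '' (V j) := by rw [hUV]; exact x.2
    obtain ⟨j, v, hv, hvx⟩ := Set.mem_iUnion.1 hx
    refine ⟨Sigma.ι (fun j : ι => (V j.down).toScheme) ⟨j⟩ ⟨v, hv⟩, U.ι.isOpenEmbedding.injective ?_⟩
    refine ((Scheme.Hom.comp_apply _ _ _).symm.trans (congrArg (fun m : (V j).toScheme ⟶ T => m ⟨v, hv⟩)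
      (show Sigma.ι (fun j : ι => (V j.down).toScheme) ⟨j⟩ ≫ q ≫ U.ι = (V j).ι ≫ 𝒰.f (a j) by
        rw [← Category.assoc, Sigma.ι_desc]; exact hp ⟨j⟩))).trans ?_
    exact (Scheme.Hom.comp_apply _ _ _).trans hvx⟩
  have ho : IsOpen (U.ι ⁻¹' W) := by
    rw [← (Flat.isQuotientMap_of_surjective q).isOpen_preimage]
    refine isOpen_iff_forall_mem_open.2 fun z hz => ?_
    obtain ⟨j, v, rfl⟩ := (sigmaOpenCover (fun j : ι => (V j.down).toScheme)).exists_eq z
    have key : ∀ w, U.ι (q (Sigma.ι (fun j : ι => (V j.down).toScheme) j w)) = 𝒰.f (a j.down) ((V j.down).ι w) :=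
      fun w => (Scheme.Hom.comp_apply _ _ _).symm.trans ((congrArg (fun m : (V j.down).toScheme ⟶ T => m w)
        (show Sigma.ι (fun j : ι => (V j.down).toScheme) j ≫ q ≫ U.ι = (V j.down).ι ≫ 𝒰.f (a j.down) by
          rw [← Category.assoc, Sigma.ι_desc]; exact hp j)).trans (Scheme.Hom.comp_apply _ _ _))
    refine ⟨Sigma.ι (fun j : ι => (V j.down).toScheme) j '' ((V j.down).ι ⁻¹' (𝒰.f (a j.down) ⁻¹' W)), ?_,
      (Sigma.ι (fun j : ι => (V j.down).toScheme) j).isOpenEmbedding.isOpenMap _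
        ((hW _).preimage (V j.down).ι.continuous), v, ?_, rfl⟩
    · rintro _ ⟨w, hw, rfl⟩
      show U.ι _ ∈ W
      rw [key]
      exact hw
    · show 𝒰.f (a j.down) ((V j.down).ι v) ∈ W
      rw [← key]
      exact hz
  have := U.ι.isOpenEmbedding.isOpenMap _ ho
  rwa [Set.image_preimage_eq_inter_range, Scheme.Opens.range_ι] at this

variable {S : Scheme.{u}}

theorem isSubmersiveSieve_proetale {T : Over S} {R : Sieve T}
    (hR : R ∈ Scheme.proetaleTopology.over S T) : IsSubmersiveSieve R := by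
  rw [GrothendieckTopology.mem_over_iff, Precoverage.mem_toGrothendieck_iff_of_isStableUnderComposition] at hR
  obtain ⟨R₀, hR₀, hle⟩ := hR
  have hfpqc := Scheme.proetalePrecoverage_le_fpqcPrecoverage _ hR₀
  rw [Scheme.fpqcPrecoverage, Scheme.propQCPrecoverage] at hfpqc
  obtain ⟨hqc, hP⟩ := hfpqc
  obtain ⟨𝒰, rfl⟩ := R₀.exists_eq_preZeroHypercover
  haveI : QuasiCompactCover 𝒰 := by simpa using hqc
  obtain ⟨hsurj, hflat⟩ := (Scheme.presieve₀_mem_precoverage_iff _).1 hP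
  have hmem : ∀ i, R (Over.homMk (𝒰.f i) rfl : Over.mk (𝒰.f i ≫ T.hom) ⟶ T) := fun i =>
    (Sieve.overEquiv_iff R _).1 (hle _ _ ⟨i⟩)
  exact ⟨fun t => by
    obtain ⟨i, y, hy⟩ := hsurj t
    exact ⟨_, _, y, hmem i, hy⟩, fun W hW => isOpen_of_qcCover 𝒰 hflat W fun i => hW _ _ (hmem i)⟩

theorem isSheaf_proetale (F : EtCoh.Ab S) : Presheaf.IsSheaf (Scheme.proetaleTopology.over S) (G F).obj :=
  isSheaf_of_submersive fun _ _ h => isSubmersiveSieve_proetale h

end Groth.L27.Fppf
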