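import Groth.Agent.L27.Fppf.LanEl
import Groth.Agent.L27.Fppf.Pull
import Groth.Agent.L27.Fppf.ProEtTop
import Groth.Agent.L27.ProEt.Continuity
import Mathlib.CategoryTheory.Adjunction.FullyFaithful

/-! # The pro-etale inverse image as a big etale sheaf -/

universe u

open CategoryTheory CategoryTheory.Limits AlgebraicGeometry Opposite

set_option backward.isDefEq.respectTransparency.types false
set_option linter.style.haveILetI false
set_option linter.unusedSectionVars false

namespace Groth.L27.Fppf

variable {X : Scheme.{u}} (F : EtCoh.Ab X)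

/-- The big sheaf on the small pro-etale site. -/
noncomputable abbrev Gp : ProEtS.AbP X :=
  ((Scheme.ProEt.forget X).sheafPushforwardContinuous AddCommGrpCat.{u + 1} (Scheme.ProEt.topology X)
    (Scheme.proetaleTopology.over X)).obj ⟨(G F).obj, isSheaf_proetale F⟩

/-- The comparison of an etale scheme seen in the pro-etale site. -/
noncomputable def epsHom (U : X.Etale) :
    (Scheme.ProEt.forget X).obj ((ProEtS.eps X).obj U) ⟶ (EtFppf.a X).obj U :=
  Over.homMk (𝟙 U.left) (Category.id_comp _)

theorem epsHom_naturality {U U' : X.Etale} (b : U' ⟶ U) :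
    (Scheme.ProEt.forget X).map ((ProEtS.eps X).map b) ≫ epsHom U = epsHom U' ≫ (EtFppf.a X).map b :=
  Over.OverMorphism.ext ((Category.comp_id _).trans (Category.id_comp _).symm)

theorem epsHom_map {W : X.ProEt} {U : X.Etale} (c : (Scheme.ProEt.forget X).obj W ⟶ (EtFppf.a X).obj U) :
    ∃ c' : W ⟶ (ProEtS.eps X).obj U, (Scheme.ProEt.forget X).map c' ≫ epsHom U = c :=
  ⟨MorphismProperty.Over.homMk c.left (Over.w c), Over.OverMorphism.ext (Category.comp_id _)⟩

variable [ProEtS.EpsCont X]

/-- The map `F ⟶ ε_* G`. -/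
noncomputable def psi : F ⟶ (ProEtS.epsPush X).obj (Gp F) :=
  ⟨{ app := fun U => e F (epsHom U.unop)
     naturality := fun U U' b => by
       refine ConcreteCategory.hom_ext _ _ fun s => ?_
       show e F (epsHom U'.unop) (F.obj.map b.unop.op s) =
         (G F).obj.map ((Scheme.ProEt.forget X).map ((ProEtS.eps X).map b.unop)).op (e F (epsHom U.unop) s)
       rw [e_nat, e_map, epsHom_naturality] }⟩

/-- The comparison `ε⁻¹ F ⟶ G`. -/
noncomputable def tau : (ProEtS.epsPull X).obj F ⟶ Gp F :=
  ((ProEtS.epsAdj X).homEquiv F (Gp F)).symm (psi F)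

theorem unit_tau (U : X.Etale) (s : F.obj.obj (op U)) :
    (tau F).hom.app (op ((ProEtS.eps X).obj U)) (((ProEtS.epsAdj X).unit.app F).hom.app (op U) s) =
      e F (epsHom U) s := by
  have h := ((ProEtS.epsAdj X).homEquiv F (Gp F)).apply_symm_apply (psi F)
  rw [Adjunction.homEquiv_unit] at h
  exact congrArg (fun z : F ⟶ (ProEtS.epsPush X).obj (Gp F) => z.hom.app (op U) s) h

theorem exists_epsRep {W : X.ProEt} (x : ((ProEtS.epsPull X).obj F).obj.obj (op W)) :
    ∃ R ∈ Scheme.ProEt.topology X W, ∀ (W' : X.ProEt) (g : W' ⟶ W), R g →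
      ∃ (U : X.Etale) (c : W' ⟶ (ProEtS.eps X).obj U) (s : F.obj.obj (op U)),
        ((ProEtS.epsPull X).obj F).obj.map g.op x = ((ProEtS.epsPull X).obj F).obj.map c.op
          (((ProEtS.epsAdj X).unit.app F).hom.app (op U) s) := by
  haveI := ProEt.preservesFiniteLimits_eps X
  haveI : RepresentablyFlat (ProEtS.eps X) := flat_of_preservesFiniteLimits _
  let K := Scheme.ProEt.topology X
  let i := (Functor.sheafPullbackConstruction.sheafPullbackIso (ProEtS.eps X) AddCommGrpCat.{u + 1}
    X.smallEtaleTopology K).app F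
  let Lp := (ProEtS.eps X).op.lan.obj F.obj
  refine ⟨_, Presheaf.imageSieve_mem K (toSheafify K Lp) (i.hom.hom.app (op W) x), fun W' g ⟨z, hz⟩ => ?_⟩
  obtain ⟨U, c, s, rfl⟩ := LanEl.el_surj (ProEtS.eps X) F.obj z
  refine ⟨U, c, s, ?_⟩
  have hu : i.hom.hom.app (op ((ProEtS.eps X).obj U)) (((ProEtS.epsAdj X).unit.app F).hom.app (op U) s) =
      (toSheafify K Lp).app _ (((ProEtS.eps X).op.lanUnit.app F.obj).app (op U) s) := by
    have h1 := congrArg (fun φ : F ⟶ (ProEtS.epsPush X).obj _ => φ.hom.app (op U) s)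
      (Adjunction.unit_leftAdjointUniq_hom_app ((ProEtS.eps X).sheafAdjunctionContinuous AddCommGrpCat.{u + 1}
        X.smallEtaleTopology K) (Functor.sheafPullbackConstruction.sheafAdjunctionContinuous (ProEtS.eps X)
        AddCommGrpCat.{u + 1} X.smallEtaleTopology K) F)
    refine Eq.trans h1 ?_
    simp [Functor.sheafPullbackConstruction.sheafAdjunctionContinuous]
    rfl
  refine (ConcreteCategory.bijective_of_isIso (i.hom.hom.app (op W'))).1 ?_
  rw [NatTrans.naturality_apply i.hom.hom g.op, NatTrans.naturality_apply i.hom.hom c.op, hu]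
  exact hz.symm.trans (NatTrans.naturality_apply (toSheafify K Lp) c.op _)

theorem tau_map {W : X.ProEt} {U : X.Etale} (c : W ⟶ (ProEtS.eps X).obj U) (s : F.obj.obj (op U)) :
    (tau F).hom.app (op W) (((ProEtS.epsPull X).obj F).obj.map c.op
      (((ProEtS.epsAdj X).unit.app F).hom.app (op U) s)) =
      e F ((Scheme.ProEt.forget X).map c ≫ epsHom U) s := by
  refine (NatTrans.naturality_apply (tau F).hom c.op _).trans ?_
  exact (congrArg ((Gp F).obj.map c.op) (unit_tau F U s)).trans (e_map F _ _ _)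

theorem exists_etale_lift {W : X.ProEt} {T' : Over X} (g : T' ⟶ (Scheme.ProEt.forget X).obj W)
    [AlgebraicGeometry.Etale g.left] :
    ∃ (W' : X.ProEt) (k : W' ⟶ W) (j : (Scheme.ProEt.forget X).obj W' ⟶ T'), IsOpenMap k.left ∧
      j ≫ g = (Scheme.ProEt.forget X).map k ∧ ∀ t : T'.left, ∃ r : W'.left, j.left r = t ∧ k.left r = g.left t := by
  haveI : WeaklyEtale W.hom := W.prop
  let gl : T'.left ⟶ W.left := g.left
  haveI : AlgebraicGeometry.Etale gl := ‹AlgebraicGeometry.Etale g.left›
  exact ⟨Scheme.ProEt.mk (gl ≫ W.hom), MorphismProperty.Over.homMk gl rfl,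
    Over.homMk (𝟙 T'.left) ((Category.id_comp _).trans (Over.w g).symm),
    gl.isOpenMap, Over.OverMorphism.ext (Category.id_comp _), fun t => ⟨t, rfl, rfl⟩⟩

theorem mem_of_open {W : X.ProEt} (R : Sieve W)
    (h : ∀ x : W.left, ∃ (W' : X.ProEt) (k : W' ⟶ W) (r : W'.left), R k ∧ IsOpenMap k.left ∧ k.left r = x) :
    R ∈ Scheme.ProEt.topology X W := by
  choose W' k r hR ho hr using h
  refine GrothendieckTopology.superset_covering _ ?_
    (ProEt.generate_ofArrows_mem_of_isOpenMap W' k ho fun x => ⟨x, r x, hr x⟩)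
  rw [Sieve.generate_le_iff, Presieve.ofArrows_le_iff]
  exact hR

theorem isIso_tau : IsIso (tau F) := by
  have h1 : Sheaf.IsLocallyInjective (tau F) := by
    refine ⟨fun {W} x y hxy => ?_⟩
    obtain ⟨R, hR, hrep⟩ := exists_epsRep F (x - y)
    refine (Scheme.ProEt.topology X).transitive hR _ fun W₁ g hg => ?_
    obtain ⟨U, c, s, hs⟩ := hrep W₁ g hg
    have h0 : e F ((Scheme.ProEt.forget X).map c ≫ epsHom U) s = 0 := by
      rw [← tau_map, ← hs, NatTrans.naturality_apply (tau F).hom g.op, map_sub, hxy, sub_self, map_zero]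
      rfl
    refine mem_of_open _ fun q => ?_
    obtain ⟨T', t, t', U', b, c', ht, htq, hc, hb⟩ := e_eq_zero F _ s h0 q
    obtain ⟨W₂, k, j, hk, hjk, hr⟩ := exists_etale_lift t
    obtain ⟨r, -, hr'⟩ := hr t'
    refine ⟨W₂, k, r, ?_, hk, hr'.trans htq⟩
    obtain ⟨d, hd⟩ := epsHom_map (j ≫ c')
    have hd' : k ≫ c = d ≫ (ProEtS.eps X).map b := by
      refine MorphismProperty.Over.Hom.ext ?_
      have := congrArg (fun z : (Scheme.ProEt.forget X).obj W₂ ⟶ (EtFppf.a X).obj U => z.left)
        (show (Scheme.ProEt.forget X).map (k ≫ c) ≫ epsHom U =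
            (Scheme.ProEt.forget X).map (d ≫ (ProEtS.eps X).map b) ≫ epsHom U by
          rw [Functor.map_comp, Functor.map_comp, Category.assoc, Category.assoc, epsHom_naturality,
            ← Category.assoc _ (epsHom U'), hd, Category.assoc, hc, ← hjk, Category.assoc])
      exact ((Category.comp_id _).symm.trans this).trans (Category.comp_id _)
    show ((ProEtS.epsPull X).obj F).obj.map (k ≫ g).op x = ((ProEtS.epsPull X).obj F).obj.map (k ≫ g).op y
    rw [← sub_eq_zero, ← map_sub, op_comp, Functor.map_comp, ConcreteCategory.comp_apply, hs,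
      ← ConcreteCategory.comp_apply, ← Functor.map_comp, ← op_comp, hd', op_comp, Functor.map_comp,
      ConcreteCategory.comp_apply]
    refine (congrArg _ (NatTrans.naturality_apply ((ProEtS.epsAdj X).unit.app F).hom b.op s).symm).trans ?_
    exact (congrArg _ ((congrArg _ hb).trans (map_zero _))).trans (map_zero _)
  have h2 : Sheaf.IsLocallySurjective (tau F) := by
    refine ⟨fun {W} x => ?_⟩
    refine mem_of_open _ fun q => ?_
    obtain ⟨T', t, t', U, c, s, ht, htq, hs⟩ := exists_e F (T := (Scheme.ProEt.forget X).obj W) x q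
    obtain ⟨W₂, k, j, hk, hjk, hr⟩ := exists_etale_lift t
    obtain ⟨r, -, hr'⟩ := hr t'
    obtain ⟨d, hd⟩ := epsHom_map (j ≫ c)
    refine ⟨W₂, k, r, ⟨((ProEtS.epsPull X).obj F).obj.map d.op (((ProEtS.epsAdj X).unit.app F).hom.app (op U) s), ?_⟩,
      hk, hr'.trans htq⟩
    refine (tau_map F _ s).trans ?_
    rw [hd, ← e_map, ← hs, map_comp', hjk]
    rfl
  haveI := h1
  haveI := h2
  haveI : Mono (tau F) := Sheaf.mono_of_isLocallyInjective _
  haveI : Epi (tau F) := (Sheaf.isLocallySurjective_iff_epi' (φ := tau F)).1 h2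
  exact isIso_of_mono_of_epi _

theorem isIso_psi : IsIso (psi F) := by
  have hb : ∀ U : X.Etale, Function.Bijective ((psi F).hom.app (op U)) := by
    intro U
    refine ⟨fun s s' h => ?_, fun x => ?_⟩
    · rw [← sub_eq_zero]
      have h0 : e F (epsHom U) (s - s') = 0 := by
        rw [map_sub]; exact sub_eq_zero.2 h
      refine EtSite.ext_of_locally F fun q => ?_
      obtain ⟨T', t, t', U', b, c', ht, htq, hc, hs⟩ := e_eq_zero F _ _ h0 q
      refine ⟨U', b, c'.left t', ?_, by rw [hs, map_zero]⟩
      refine (Scheme.Hom.comp_apply _ _ _).symm.trans ((congrArg (fun z : T' ⟶ (EtFppf.a X).obj U => z.left t') hc).trans ?_)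
      exact (Scheme.Hom.comp_apply _ _ _).trans htq
    · let Sv : Sieve U :=
        { arrows := fun U' b => ∃ s, e F (epsHom U') s =
            (G F).obj.map ((Scheme.ProEt.forget X).map ((ProEtS.eps X).map b)).op x
          downward_closed := fun {U' U'' b} ⟨s, hs⟩ d => ⟨F.obj.map d.op s, by
            rw [e_nat, ← epsHom_naturality, ← e_map, hs, map_comp', ← Functor.map_comp, ← Functor.map_comp]⟩ }
      have hcov : Sv ∈ X.smallEtaleTopology U := (EtSite.mem_topology_iff _).2 fun q => by
        obtain ⟨T', t, t', V, c, s, ht, htq, hs⟩ := exists_e F (T := (Scheme.ProEt.forget X).obj ((ProEtS.eps X).obj U)) x q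
        haveI : AlgebraicGeometry.Etale U.hom := U.prop
        let tl : T'.left ⟶ U.left := t.left
        haveI : AlgebraicGeometry.Etale tl := ht
        let U' : X.Etale := Scheme.Etale.mk (tl ≫ U.hom)
        let b : U' ⟶ U := MorphismProperty.Over.homMk tl rfl
        let i : (Scheme.ProEt.forget X).obj ((ProEtS.eps X).obj U') ⟶ T' :=
          Over.homMk (𝟙 T'.left) ((Category.id_comp _).trans (Over.w t).symm)
        let c' : U' ⟶ V := MorphismProperty.Over.homMk c.left
          ((Over.w c).trans (Over.w t).symm)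
        refine ⟨U', b, t', ⟨F.obj.map c'.op s, ?_⟩, htq⟩
        rw [e_nat, show epsHom U' ≫ (EtFppf.a X).map c' = i ≫ c from
            Over.OverMorphism.ext rfl, ← e_map, ← hs, map_comp']
        refine congrArg (fun z : (Scheme.ProEt.forget X).obj ((ProEtS.eps X).obj U') ⟶
          (Scheme.ProEt.forget X).obj ((ProEtS.eps X).obj U) => (G F).obj.map z.op x) ?_
        exact Over.OverMorphism.ext (Category.id_comp _)
      have hinj : ∀ V : X.Etale, Function.Injective (e F (epsHom V)) := by
        intro V s s' h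
        have h0 : e F (epsHom V) (s - s') = 0 := by rw [map_sub]; exact sub_eq_zero.2 h
        rw [← sub_eq_zero]
        refine EtSite.ext_of_locally F fun q => ?_
        obtain ⟨T', t, t', U', b, c', ht, htq, hc, hs⟩ := e_eq_zero F _ _ h0 q
        refine ⟨U', b, c'.left t', ?_, by rw [hs, map_zero]⟩
        refine (Scheme.Hom.comp_apply _ _ _).symm.trans ((congrArg (fun z : T' ⟶ (EtFppf.a X).obj V => z.left t') hc).trans ?_)
        exact (Scheme.Hom.comp_apply _ _ _).trans htq
      have hsh := (isSheaf_iff_isSheaf_of_type _ _).1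
        ((Presheaf.isSheaf_iff_isSheaf_forget _ F.obj (forget AddCommGrpCat.{u + 1})).1 F.property) Sv hcov
      let fam : Presieve.FamilyOfElements (F.obj ⋙ forget AddCommGrpCat.{u + 1}) Sv.arrows := fun U' b h => h.choose
      have hfam : fam.Compatible := by
        refine (Presieve.compatible_iff_sieveCompatible fam).2 fun U' U'' b d h => hinj U'' ?_
        refine (Sv.downward_closed h d).choose_spec.trans ?_
        show _ = e F (epsHom U'') (F.obj.map d.op h.choose)
        rw [e_nat, ← epsHom_naturality, ← e_map, h.choose_spec, map_comp', ← Functor.map_comp, ← Functor.map_comp]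
      obtain ⟨s, hs, -⟩ := hsh fam hfam
      refine ⟨s, ?_⟩
      refine EtSite.ext_of_locally ((ProEtS.epsPush X).obj (Gp F)) fun q => ?_
      obtain ⟨U', b, r, hb, hr⟩ := (EtSite.mem_topology_iff _).1 hcov q
      refine ⟨U', b, r, hr, ?_⟩
      refine (NatTrans.naturality_apply (psi F).hom b.op s).symm.trans ?_
      rw [show F.obj.map b.op s = hb.choose from hs b hb]
      exact hb.choose_spec
  haveI : ∀ U, IsIso ((psi F).hom.app U) := fun U => (ConcreteCategory.isIso_iff_bijective _).2 (hb U.unop)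
  haveI : IsIso (psi F).hom := NatIso.isIso_of_isIso_app _
  haveI : IsIso ((sheafToPresheaf _ _).map (psi F)) := ‹IsIso (psi F).hom›
  exact isIso_of_fully_faithful (sheafToPresheaf _ _) _

theorem isIso_unit : IsIso ((ProEtS.epsAdj X).unit.app F) := by
  haveI := isIso_tau F
  haveI := isIso_psi F
  have h : (ProEtS.epsAdj X).unit.app F ≫ (ProEtS.epsPush X).map (tau F) = psi F := by
    exact (Adjunction.homEquiv_unit _ _ _ _).symm.trans
      (((ProEtS.epsAdj X).homEquiv F (Gp F)).apply_symm_apply (psi F))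
  exact IsIso.of_isIso_fac_right h

end Groth.L27.Fppf
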