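import Groth.Agent.L27.Fppf.Elem
import Mathlib.AlgebraicGeometry.Morphisms.FlatMono
import Mathlib.AlgebraicGeometry.Morphisms.UniversallyOpen
import Mathlib.AlgebraicGeometry.PullbackCarrier

/-! # The big etale sheaf attached to a small etale sheaf satisfies fppf descent -/

universe u

open CategoryTheory CategoryTheory.Limits AlgebraicGeometry Opposite

set_option backward.isDefEq.respectTransparency.types false
set_option linter.style.haveILetI false

namespace Groth.L27.Fppf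

variable {S : Scheme.{u}}

/-- Fibre products in `Over S`, with their points. -/
theorem exists_pullback {A B C : Over S} (f : A ⟶ C) (g : B ⟶ C) :
    ∃ (P : Over S) (a : P ⟶ A) (b : P ⟶ B), a ≫ f = b ≫ g ∧ IsPullback a.left b.left f.left g.left ∧
      ∀ (W : Over S) (u : W ⟶ A) (v : W ⟶ B), u ≫ f = v ≫ g → ∃ l : W ⟶ P, l ≫ a = u ∧ l ≫ b = v := by
  refine ⟨Over.mk (pullback.fst f.left g.left ≫ A.hom), Over.homMk (pullback.fst f.left g.left) rfl,
    Over.homMk (pullback.snd f.left g.left) ?_, Over.OverMorphism.ext pullback.condition,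
    IsPullback.of_hasPullback _ _, fun W u v e => ?_⟩
  · show pullback.snd f.left g.left ≫ B.hom = pullback.fst f.left g.left ≫ A.hom
    rw [← Over.w f, ← Over.w g, pullback.condition_assoc]
  · have e' : u.left ≫ f.left = v.left ≫ g.left := congrArg (fun q => q.left) e
    exact ⟨Over.homMk (pullback.lift u.left v.left e')
      ((Category.assoc _ _ _).symm.trans ((congrArg (· ≫ A.hom) (pullback.lift_fst _ _ _)).trans (Over.w u))),
      Over.OverMorphism.ext (pullback.lift_fst _ _ _), Over.OverMorphism.ext (pullback.lift_snd _ _ _)⟩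

theorem comp_left_apply {A B C : Over S} (f : A ⟶ B) (g : B ⟶ C) (x : A.left) :
    (f ≫ g).left x = g.left (f.left x) := Scheme.Hom.comp_apply _ _ _

theorem etale_comp {A B C : Over S} (f : A ⟶ B) (g : B ⟶ C) [AlgebraicGeometry.Etale f.left]
    [AlgebraicGeometry.Etale g.left] : AlgebraicGeometry.Etale (f ≫ g).left :=
  inferInstanceAs (AlgebraicGeometry.Etale (f.left ≫ g.left))

instance etale_a_map {U U' : S.Etale} (b : U' ⟶ U) : AlgebraicGeometry.Etale ((EtFppf.a S).map b).left := by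
  have h1 : AlgebraicGeometry.Etale U'.hom := U'.prop
  have h2 : AlgebraicGeometry.Etale U.hom := U.prop
  have h3 : AlgebraicGeometry.Etale (b.left ≫ U.hom) := by rw [MorphismProperty.Over.w b]; exact h1
  exact MorphismProperty.of_postcomp (W := EtCoh.etaleMP.{u}) (W' := EtCoh.etaleMP.{u}) b.left U.hom h2 h3

/-- A section of an etale morphism composed with an open map gives an open map. -/
theorem isOpenMap_of_graph {A P T : Scheme.{u}} (m : A ⟶ P) (p : P ⟶ T) [AlgebraicGeometry.Etale p]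
    [Flat (m ≫ p)] [LocallyOfFinitePresentation (m ≫ p)] : IsOpenMap m.base := by
  let Γ : A ⟶ pullback (m ≫ p) p := pullback.lift (𝟙 A) m (Category.id_comp _)
  have h1 : Γ ≫ pullback.fst (m ≫ p) p = 𝟙 A := pullback.lift_fst _ _ _
  have h2 : Γ ≫ pullback.snd (m ≫ p) p = m := pullback.lift_snd _ _ _
  haveI : AlgebraicGeometry.Etale (pullback.fst (m ≫ p) p) := inferInstance
  haveI : AlgebraicGeometry.Etale (Γ ≫ pullback.fst (m ≫ p) p) := by rw [h1]; infer_instance
  haveI : AlgebraicGeometry.Etale Γ :=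
    MorphismProperty.of_postcomp (W := EtCoh.etaleMP.{u}) (W' := EtCoh.etaleMP.{u}) Γ (pullback.fst (m ≫ p) p)
      ‹AlgebraicGeometry.Etale (pullback.fst (m ≫ p) p)› ‹AlgebraicGeometry.Etale (Γ ≫ pullback.fst (m ≫ p) p)›
  haveI : IsSplitMono Γ := ⟨⟨⟨pullback.fst (m ≫ p) p, h1⟩⟩⟩
  haveI : IsOpenImmersion Γ := IsOpenImmersion.of_flat_of_mono Γ
  rw [← h2]
  exact (pullback.snd (m ≫ p) p).isOpenMap.comp Γ.isOpenEmbedding.isOpenMap

variable (F : EtCoh.Ab S)

/-- A section vanishes on an etale neighbourhood of a point. -/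
def ZeroNear {T : Over S} (x : (G F).obj.obj (op T)) (t : T.left) : Prop :=
  ∃ (T' : Over S) (g : T' ⟶ T) (t' : T'.left),
    AlgebraicGeometry.Etale g.left ∧ g.left t' = t ∧ (G F).obj.map g.op x = 0

theorem map_comp' {T T' T'' : Over S} (i : T'' ⟶ T') (j : T' ⟶ T) (x : (G F).obj.obj (op T)) :
    (G F).obj.map i.op ((G F).obj.map j.op x) = (G F).obj.map (i ≫ j).op x :=
  (Functor.map_comp_apply (G F).obj j.op i.op x).symm

/-- Vanishing near a point is reflected by pullback. -/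
theorem ZeroNear.of_map {T T' : Over S} (g : T' ⟶ T) (x : (G F).obj.obj (op T)) (t' : T'.left)
    (hx : ZeroNear F ((G F).obj.map g.op x) t') : ZeroNear F x (g.left t') := by
  obtain ⟨T₁, h, t₁, hh, rfl, hx⟩ := hx
  obtain ⟨P, p, p₀, U, c, s, hp, hp₀, hps⟩ := exists_e F x (g.left (h.left t₁))
  obtain ⟨Q, a, b, hab, hQ, -⟩ := exists_pullback (h ≫ g) p
  obtain ⟨q, hq, hq'⟩ := Scheme.exists_preimage_of_isPullback hQ t₁ p₀ ((comp_left_apply h g t₁).trans hp₀.symm)
  have h0 : e F (b ≫ c) s = 0 := by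
    rw [← e_map, ← hps, map_comp', ← hab, ← map_comp', ← map_comp', hx, map_zero]
  obtain ⟨Q', k, q', U', β, c', hk, hkq, hc', hs⟩ := e_eq_zero F _ s h0 q
  obtain ⟨R, r₁, r₂, hr, hR, hlift⟩ := exists_pullback c ((EtFppf.a S).map β)
  obtain ⟨l, hl, -⟩ := hlift Q' (k ≫ b) c' ((Category.assoc _ _ _).trans hc'.symm)
  haveI : AlgebraicGeometry.Etale r₁.left :=
    MorphismProperty.of_isPullback (P := EtCoh.etaleMP.{u}) hR.flip (etale_a_map β)
  haveI := hp
  refine ⟨R, r₁ ≫ p, l.left q', etale_comp r₁ p, ?_, ?_⟩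
  · rw [comp_left_apply, ← comp_left_apply l r₁, hl, comp_left_apply, hkq, hq', hp₀]
  · rw [← map_comp', hps, e_map, hr, ← e_nat, hs, map_zero]

theorem eq_zero_of_zeroNear {T : Over S} (x : (G F).obj.obj (op T)) (h : ∀ t, ZeroNear F x t) : x = 0 :=
  eq_zero_of_locally F x h

theorem zeroNear_of_eq_zero {T : Over S} (x : (G F).obj.obj (op T)) (h : x = 0) (t : T.left) : ZeroNear F x t :=
  ⟨T, 𝟙 T, t, inferInstanceAs (AlgebraicGeometry.Etale (𝟙 T.left)), rfl, by rw [h, map_zero]⟩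

/-- Sections vanishing on an fppf covering vanish. -/
theorem eq_of_cover {T : Over S} {R : Sieve T} (hR : R ∈ EtFppf.J S T) (x y : (G F).obj.obj (op T))
    (h : ∀ (Y : Over S) (g : Y ⟶ T), R g → (G F).obj.map g.op x = (G F).obj.map g.op y) : x = y := by
  rw [← sub_eq_zero]
  refine eq_zero_of_zeroNear F _ fun t => ?_
  obtain ⟨Y, g, y₀, hg, -, rfl⟩ := mem_J.1 hR t
  exact ZeroNear.of_map F g _ y₀ (zeroNear_of_eq_zero F _ (by rw [map_sub, h Y g hg, sub_self]) y₀)

theorem isSheaf : Presheaf.IsSheaf (EtFppf.J S) (G F).obj := by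
  rw [Presheaf.isSheaf_iff_isSheaf_forget (EtFppf.J S) (G F).obj (forget AddCommGrpCat.{u + 1}),
    isSheaf_iff_isSheaf_of_type]
  intro T R hR fam hfam
  have hcomp : ∀ {Y Z : Over S} (k : Z ⟶ Y) (g : Y ⟶ T) (hg : R g),
      (G F).obj.map k.op (fam g hg) = fam (k ≫ g) (R.downward_closed hg k) := fun k g hg =>
    ((Presieve.compatible_iff_sieveCompatible fam).1 hfam g k hg).symm
  let Ok : ∀ {T₁ : Over S} (_ : T₁ ⟶ T), (G F).obj.obj (op T₁) → Prop := fun {T₁} h y =>
    ∀ (Z : Over S) (k : Z ⟶ T₁) (hk : R (k ≫ h)), (G F).obj.map k.op y = fam (k ≫ h) hk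
  let Sv : Sieve T :=
    { arrows := fun T₁ h => ∃ y, Ok h y
      downward_closed := fun {T₁ T₂ h} ⟨y, hy⟩ i => ⟨(G F).obj.map i.op y, fun Z k hk => by
        have hk' : R ((k ≫ i) ≫ h) := by rwa [Category.assoc]
        rw [map_comp', hy Z (k ≫ i) hk']
        congr 1⟩ }
  have huniq : ∀ {T₁ : Over S} (h : T₁ ⟶ T) (y y' : (G F).obj.obj (op T₁)), Ok h y → Ok h y' → y = y' :=
    fun h y y' hy hy' => eq_of_cover F ((EtFppf.J S).pullback_stable h hR) y y' fun Z k hk =>
      (hy Z k hk).trans (hy' Z k hk).symm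
  have hcov : Sv ∈ Jet S T := by
    refine mem_Jet.2 fun t => ?_
    obtain ⟨Y, g, y₀, hg, ⟨hgf, hgp⟩, rfl⟩ := mem_J.1 hR t
    obtain ⟨T₁, h, t₁, U, c, s, hh, ht₁, hs⟩ := exists_e F (fam g hg) y₀
    obtain ⟨P, p, q, -, hP, hlift⟩ := exists_pullback (C := Over.mk (𝟙 S)) (Over.homMk T.hom (Category.comp_id _))
      (Over.homMk (U := (EtFppf.a S).obj U) U.hom (Category.comp_id _))
    haveI : AlgebraicGeometry.Etale p.left :=
      MorphismProperty.of_isPullback (P := EtCoh.etaleMP.{u}) hP.flip U.prop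
    obtain ⟨m, hm, hm'⟩ := hlift T₁ (h ≫ g) c (Over.OverMorphism.ext ((Over.w (h ≫ g)).trans (Over.w c).symm))
    haveI : Flat (m.left ≫ p.left) := by
      rw [show m.left ≫ p.left = h.left ≫ g.left from congrArg (fun z => z.left) hm]; infer_instance
    haveI : LocallyOfFinitePresentation (m.left ≫ p.left) := by
      rw [show m.left ≫ p.left = h.left ≫ g.left from congrArg (fun z => z.left) hm]; infer_instance
    let O : P.left.Opens := ⟨Set.range m.left, (isOpenMap_of_graph m.left p.left).isOpen_range⟩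
    let W : Over S := Over.mk (O.ι ≫ P.hom)
    let ι : W ⟶ P := Over.homMk O.ι rfl
    refine ⟨W, ι ≫ p, ⟨m.left t₁, ⟨t₁, rfl⟩⟩, ⟨e F (ι ≫ q) s, fun Z k hk => ?_⟩,
      inferInstanceAs (AlgebraicGeometry.Etale (O.ι ≫ p.left)), ?_⟩
    · rw [← sub_eq_zero]
      refine eq_zero_of_zeroNear F _ fun z => ?_
      obtain ⟨Z', a, b, hab, hZ', -⟩ := exists_pullback (k ≫ ι) m
      obtain ⟨z₂, hz₂⟩ := (k.left z).2
      obtain ⟨z', hz', -⟩ := Scheme.exists_preimage_of_isPullback hZ' z z₂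
        ((comp_left_apply k ι z).trans hz₂.symm)
      rw [← hz']
      refine ZeroNear.of_map F a _ z' (zeroNear_of_eq_zero F _ ?_ z')
      rw [map_sub, sub_eq_zero, map_comp', e_map, hcomp, show (a ≫ k) ≫ ι ≫ q = (a ≫ k ≫ ι) ≫ q by
        simp only [Category.assoc], hab, Category.assoc, hm', ← e_map, ← hs, map_comp', hcomp]
      congr 1
      rw [show a ≫ k ≫ ι ≫ p = (a ≫ k ≫ ι) ≫ p by simp only [Category.assoc], hab]
      simp only [Category.assoc, hm]
    · refine (comp_left_apply ι p _).trans ?_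
      show p.left (m.left t₁) = _
      rw [← comp_left_apply m p, hm, comp_left_apply, ht₁]
  have hG := (isSheaf_iff_isSheaf_of_type _ _).1
    ((Presheaf.isSheaf_iff_isSheaf_forget (Jet S) (G F).obj (forget AddCommGrpCat.{u + 1})).1 (G F).property) Sv hcov
  let fam' : Presieve.FamilyOfElements ((G F).obj ⋙ forget AddCommGrpCat.{u + 1}) Sv.arrows :=
    fun T₁ h hh => hh.choose
  have hfam' : fam'.Compatible := by
    refine (Presieve.compatible_iff_sieveCompatible fam').2 fun T₁ T₂ h i hh => ?_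
    refine huniq (i ≫ h) _ _ (Sv.downward_closed hh i).choose_spec fun Z k hk => ?_
    have hk' : R ((k ≫ i) ≫ h) := by rwa [Category.assoc]
    refine (map_comp' F k i _).trans ((hh.choose_spec Z (k ≫ i) hk').trans ?_)
    congr 1
  obtain ⟨y, hy, -⟩ := hG fam' hfam'
  have hyR : ∀ (Y : Over S) (g : Y ⟶ T) (hg : R g), (G F).obj.map g.op y = fam g hg := by
    intro Y g hg
    rw [← sub_eq_zero]
    refine eq_zero_of_zeroNear F _ fun y₀ => ?_
    obtain ⟨T₁, h, t₁, hh, -, ht₁⟩ := mem_Jet.1 hcov (g.left y₀)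
    obtain ⟨Z, a, b, hab, hZ, -⟩ := exists_pullback g h
    obtain ⟨z, hz, -⟩ := Scheme.exists_preimage_of_isPullback hZ y₀ t₁ ht₁.symm
    rw [← hz]
    refine ZeroNear.of_map F a _ z (zeroNear_of_eq_zero F _ ?_ z)
    have hbh : R (b ≫ h) := hab ▸ R.downward_closed hg a
    rw [map_sub, sub_eq_zero, map_comp', hab, ← map_comp',
      show (G F).obj.map h.op y = hh.choose from hy h hh, hh.choose_spec Z b hbh, hcomp]
    congr 1
    exact hab.symm
  exact ⟨y, hyR, fun y' hy' => eq_of_cover F hR y' y fun Y g hg => (hy' g hg).trans (hyR Y g hg).symm⟩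

end Groth.L27.Fppf
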