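import Groth.Agent.L27.Fppf.Pull
import Mathlib.CategoryTheory.Sites.Pullback

/-! # Sections of the inverse image on the big fppf site -/

universe u

open CategoryTheory CategoryTheory.Limits AlgebraicGeometry Opposite

set_option backward.isDefEq.respectTransparency.types false
set_option linter.style.haveILetI false

namespace Groth.L27.Fppf

variable {S : Scheme.{u}} [EtFppf.ACont S] (F : EtCoh.Ab S)

/-- The big sheaf as an fppf sheaf. -/
noncomputable abbrev GJ : EtFppf.AbF S := ⟨(G F).obj, isSheaf F⟩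

theorem W_toSheafify : (EtFppf.J S).W (toSheafify (Jet S) (L F)) := by
  rw [GrothendieckTopology.W_iff_isLocallyBijective]
  exact ⟨⟨fun x y h => Jet_le_J _ (Presheaf.equalizerSieve_mem (Jet S) _ x y h)⟩,
    ⟨fun x => Jet_le_J _ (Presheaf.imageSieve_mem (Jet S) (toSheafify (Jet S) (L F)) x)⟩⟩

theorem nonempty_aPull_iso : Nonempty ((EtFppf.aPull S).obj F ≅ GJ F) := by
  have : IsIso ((presheafToSheaf (EtFppf.J S) AddCommGrpCat.{u + 1}).map (toSheafify (Jet S) (L F))) :=
    ((EtFppf.J S).W_iff _).1 (W_toSheafify F)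
  exact ⟨(Functor.sheafPullbackConstruction.sheafPullbackIso (EtFppf.a S) AddCommGrpCat.{u + 1}
    S.smallEtaleTopology (EtFppf.J S)).app F ≪≫
    @asIso _ _ _ _ _ this ≪≫
    (sheafificationIso (GJ F)).symm⟩

theorem nonempty_sections_iso {T : Scheme.{u}} (f : T ⟶ S) :
    Nonempty (((EtFppf.aPull S).obj F).obj.obj (op (Over.mk f)) ≅
      ((EtCoh.pull f).obj F).obj.obj (op (EtCoh.top T))) := by
  obtain ⟨α⟩ := nonempty_aPull_iso F
  haveI := isIso_theta f F
  let i : (cT f).obj (EtCoh.top T) ≅ Over.mk f := Over.isoMk (Iso.refl _) rfl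
  exact ⟨((sheafToPresheaf _ _).mapIso α).app (op (Over.mk f)) ≪≫ (G F).obj.mapIso i.op ≪≫
    (((sheafToPresheaf _ _).mapIso (asIso (theta f F))).app (op (EtCoh.top T))).symm⟩

end Groth.L27.Fppf
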