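import Groth.Agent.L27.Fppf.Elem

/-! # Elements of left Kan extensions along flat functors -/

universe u

open CategoryTheory CategoryTheory.Limits AlgebraicGeometry Opposite

set_option backward.isDefEq.respectTransparency.types false
set_option linter.style.haveILetI false

namespace Groth.L27.Fppf.LanEl

variable {C : Type (u + 1)} [Category.{u} C] {D : Type (u + 1)} [Category.{u} D] (a : C ⥤ D)
  (F : Cᵒᵖ ⥤ AddCommGrpCat.{u + 1})

/-- Elements of the left Kan extension. -/
noncomputable def el {T : D} {U : C} (c : T ⟶ a.obj U) : F.obj (op U) ⟶ (a.op.lan.obj F).obj (op T) :=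
  (a.op.lanUnit.app F).app (op U) ≫ (a.op.lan.obj F).map c.op

theorem el_map {T T' : D} (g : T' ⟶ T) {U : C} (c : T ⟶ a.obj U) (s : F.obj (op U)) :
    (a.op.lan.obj F).map g.op (el a F c s) = el a F (g ≫ c) s :=
  (Functor.map_comp_apply (a.op.lan.obj F) c.op g.op _).symm

theorem el_nat {T : D} {U U' : C} (b : U' ⟶ U) (c : T ⟶ a.obj U') (s : F.obj (op U)) :
    el a F c (F.map b.op s) = el a F (c ≫ a.map b) s := by
  rw [← el_map]
  exact congrArg ((a.op.lan.obj F).map c.op) (NatTrans.naturality_apply (a.op.lanUnit.app F) b.op s)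

theorem el_surj [RepresentablyFlat a] {T : D} (z : (a.op.lan.obj F).obj (op T)) :
    ∃ (U : C) (c : T ⟶ a.obj U) (s : F.obj (op U)), el a F c s = z := by
  have hpt := Functor.isPointwiseLeftKanExtensionOfIsLeftKanExtension (a.op.lan.obj F)
    (a.op.lanUnit.app F) (op T)
  obtain ⟨g, s, rfl⟩ := Concrete.isColimit_exists_rep _ hpt z
  exact ⟨g.left.unop, g.hom.unop, s, rfl⟩

end Groth.L27.Fppf.LanEl
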