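import Groth.Agent.L27.Fppf.Submersive
import Mathlib.AlgebraicGeometry.AffineTransitionLimit

/-! # Base change of cofiltered systems of schemes along a morphism to one stage -/

universe u

open CategoryTheory CategoryTheory.Limits AlgebraicGeometry Opposite

set_option backward.isDefEq.respectTransparency.types false
set_option linter.style.haveILetI false

namespace Groth.L27.Fppf.Lim

variable {S : Scheme.{u}} {I : Type u} [SmallCategory I] (D : I ⥤ Over S) (c : Cone D) {i : I} {Q : Over S}
  (p : Q ⟶ D.obj i)

theorem comm_aux {j k : CategoryTheory.Over i} (φ : j ⟶ k) :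
    pullback.fst p.left (D.map j.hom).left ≫ p.left =
      (pullback.snd p.left (D.map j.hom).left ≫ (D.map φ.left).left) ≫ (D.map k.hom).left := by
  rw [pullback.condition, Category.assoc]
  refine congrArg (_ ≫ ·) ?_
  rw [← Over.comp_left, ← D.map_comp, CategoryTheory.Over.w φ]

/-- The base changed system. -/
noncomputable def pbDiag : CategoryTheory.Over i ⥤ Over S where
  obj j := Over.mk (pullback.fst p.left (D.map j.hom).left ≫ Q.hom)
  map {j k} φ := Over.homMk (pullback.lift (pullback.fst _ _)
    (pullback.snd _ _ ≫ (D.map φ.left).left) (comm_aux D p φ)) (pullback.lift_fst_assoc _ _ _ _)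
  map_id j := by
    refine Over.OverMorphism.ext (pullback.hom_ext ?_ ?_)
    · exact (pullback.lift_fst _ _ _).trans (Category.id_comp _).symm
    · refine (pullback.lift_snd _ _ _).trans ?_
      simp
  map_comp φ ψ := by
    refine Over.OverMorphism.ext (pullback.hom_ext ?_ ?_)
    · exact (pullback.lift_fst _ _ _).trans (((pullback.lift_fst _ _ _).symm.trans
        (congrArg (_ ≫ ·) (pullback.lift_fst _ _ _).symm)).trans (Category.assoc _ _ _).symm)
    · refine (pullback.lift_snd _ _ _).trans ?_
      refine Eq.trans ?_ (((congrArg (_ ≫ ·) (pullback.lift_snd _ _ _)).trans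
        ((Category.assoc _ _ _).symm.trans (congrArg (· ≫ _) (pullback.lift_snd _ _ _)))).symm.trans (Category.assoc _ _ _).symm)
      simp only [CategoryTheory.Over.comp_left, Functor.map_comp, Over.comp_left, Category.assoc]

/-- The projection to `Q`. -/
noncomputable def pbFst (j : CategoryTheory.Over i) : (pbDiag D p).obj j ⟶ Q :=
  Over.homMk (pullback.fst p.left (D.map j.hom).left) rfl

/-- The projection to the original system. -/
noncomputable def pbSnd (j : CategoryTheory.Over i) : (pbDiag D p).obj j ⟶ D.obj j.left :=
  Over.homMk (pullback.snd p.left (D.map j.hom).left)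
    ((congrArg (_ ≫ ·) (Over.w (D.map j.hom)).symm).trans ((Category.assoc _ _ _).symm.trans
      ((congrArg (· ≫ (D.obj i).hom) pullback.condition.symm).trans ((Category.assoc _ _ _).trans
        (congrArg (_ ≫ ·) (Over.w p))))))

theorem pb_condition (j : CategoryTheory.Over i) : pbFst D p j ≫ p = pbSnd D p j ≫ D.map j.hom :=
  Over.OverMorphism.ext pullback.condition

theorem pbFst_map {j k : CategoryTheory.Over i} (φ : j ⟶ k) : (pbDiag D p).map φ ≫ pbFst D p k = pbFst D p j :=
  Over.OverMorphism.ext (pullback.lift_fst _ _ _)

theorem pbSnd_map {j k : CategoryTheory.Over i} (φ : j ⟶ k) :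
    (pbDiag D p).map φ ≫ pbSnd D p k = pbSnd D p j ≫ D.map φ.left :=
  Over.OverMorphism.ext (pullback.lift_snd _ _ _)

theorem isPullback_map {j k : CategoryTheory.Over i} (φ : j ⟶ k) :
    IsPullback ((pbDiag D p).map φ).left (pbSnd D p j).left (pbSnd D p k).left (D.map φ.left).left := by
  refine IsPullback.of_right ?_ (congrArg (fun z => z.left) (pbSnd_map D p φ)) (IsPullback.of_hasPullback p.left (D.map k.hom).left).flip.flip
    |> fun h => h
  have h1 : ((pbDiag D p).map φ).left ≫ pullback.fst p.left (D.map k.hom).left = pullback.fst p.left (D.map j.hom).left :=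
    pullback.lift_fst _ _ _
  have h2 : (D.map φ.left).left ≫ (D.map k.hom).left = (D.map j.hom).left := by
    rw [← Over.comp_left, ← D.map_comp, CategoryTheory.Over.w φ]
  rw [h1, h2]
  exact IsPullback.of_hasPullback _ _

theorem isAffineHom_map [∀ (j k : I) (f : j ⟶ k), IsAffineHom (D.map f).left] {j k : CategoryTheory.Over i}
    (φ : j ⟶ k) : IsAffineHom ((pbDiag D p).map φ).left :=
  MorphismProperty.of_isPullback (P := @IsAffineHom) (isPullback_map D p φ).flip inferInstance

/-- The base changed cone. -/
noncomputable def pbCone : Cone (pbDiag D p) where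
  pt := Over.mk (pullback.fst p.left (c.π.app i).left ≫ Q.hom)
  π :=
    { app := fun j => Over.homMk (pullback.lift (pullback.fst _ _)
        (pullback.snd _ _ ≫ (c.π.app j.left).left) (by
          rw [Category.assoc, ← Over.comp_left, c.w j.hom]
          exact pullback.condition)) (pullback.lift_fst_assoc _ _ _ _)
      naturality := fun j k φ => by
        refine Over.OverMorphism.ext (pullback.hom_ext ?_ ?_)
        · exact ((congrArg (· ≫ _) (Category.id_comp _)).trans (pullback.lift_fst _ _ _)).trans
            ((((Category.assoc _ _ _).trans (congrArg (_ ≫ ·) (pullback.lift_fst _ _ _))).trans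
              (pullback.lift_fst _ _ _)).symm)
        · refine ((congrArg (· ≫ _) (Category.id_comp _)).trans (pullback.lift_snd _ _ _)).trans ?_
          refine Eq.trans ?_ (((Category.assoc _ _ _).trans (congrArg (_ ≫ ·) (pullback.lift_snd _ _ _))).trans
            ((Category.assoc _ _ _).symm.trans (congrArg (· ≫ _) (pullback.lift_snd _ _ _)))).symm
          rw [Category.assoc, ← Over.comp_left, c.w φ.left] }

/-- The projection of the base changed cone to `Q`. -/
noncomputable def coneFst : (pbCone D c p).pt ⟶ Q := Over.homMk (pullback.fst p.left (c.π.app i).left) rfl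

/-- The projection of the base changed cone to the limit. -/
noncomputable def coneSnd : (pbCone D c p).pt ⟶ c.pt :=
  Over.homMk (pullback.snd p.left (c.π.app i).left)
    ((congrArg (_ ≫ ·) (Over.w (c.π.app i)).symm).trans ((Category.assoc _ _ _).symm.trans
      ((congrArg (· ≫ (D.obj i).hom) pullback.condition.symm).trans ((Category.assoc _ _ _).trans
        (congrArg (_ ≫ ·) (Over.w p))))))

theorem cone_condition : coneFst D c p ≫ p = coneSnd D c p ≫ c.π.app i :=
  Over.OverMorphism.ext pullback.condition

theorem cone_fst (j : CategoryTheory.Over i) : (pbCone D c p).π.app j ≫ pbFst D p j = coneFst D c p :=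
  Over.OverMorphism.ext (pullback.lift_fst _ _ _)

theorem cone_snd (j : CategoryTheory.Over i) :
    (pbCone D c p).π.app j ≫ pbSnd D p j = coneSnd D c p ≫ c.π.app j.left :=
  Over.OverMorphism.ext (pullback.lift_snd _ _ _)

theorem isPullback_coneSnd :
    IsPullback (coneFst D c p).left (coneSnd D c p).left p.left (c.π.app i).left :=
  IsPullback.of_hasPullback _ _

attribute [local instance] CategoryTheory.isConnected_of_hasTerminal

/-- The base changed cone is limiting. -/
noncomputable def isLimitPbCone [IsCofiltered I] (hc : IsLimit ((Over.forget S).mapCone c)) :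
    IsLimit ((Over.forget S).mapCone (pbCone D c p)) :=
  isLimitOfIsPullbackOfIsConnected
    (α := ({ app := fun j => (pbSnd D p j).left
             naturality := fun j k φ => congrArg (fun z => z.left) (pbSnd_map D p φ) } :
      pbDiag D p ⋙ Over.forget S ⟶ CategoryTheory.Over.forget i ⋙ D ⋙ Over.forget S))
    _ _ (by exact { hom := (coneSnd D c p).left, w := fun j => (congrArg (fun z => z.left) (cone_snd D c p j)).symm })
    (fun j => by
      refine IsPullback.of_right ?_ (congrArg (fun z => z.left) (cone_snd D c p j))
        (IsPullback.of_hasPullback p.left (D.map j.hom).left)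
      have h1 : ((pbCone D c p).π.app j).left ≫ pullback.fst p.left (D.map j.hom).left =
          pullback.fst p.left (c.π.app i).left := pullback.lift_fst _ _ _
      have h2 : (c.π.app j.left).left ≫ (D.map j.hom).left = (c.π.app i).left := by
        rw [← Over.comp_left, c.w j.hom]
      show IsPullback (((pbCone D c p).π.app j).left ≫ pullback.fst p.left (D.map j.hom).left)
        (coneSnd D c p).left p.left ((c.π.app j.left).left ≫ (D.map j.hom).left)
      rw [h1, h2]
      exact IsPullback.of_hasPullback _ _)
    ((Functor.Initial.isLimitWhiskerEquiv (CategoryTheory.Over.forget i) ((Over.forget S).mapCone c)).symm hc)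

theorem compactSpace_obj [QuasiCompact p.left] [∀ j, CompactSpace (D.obj j).left] (j : CategoryTheory.Over i) :
    CompactSpace ((pbDiag D p).obj j).left :=
  haveI : QuasiCompact (pbSnd D p j).left :=
    MorphismProperty.of_isPullback (P := @QuasiCompact) (IsPullback.of_hasPullback p.left (D.map j.hom).left) ‹_›
  QuasiCompact.compactSpace_of_compactSpace (pbSnd D p j).left

end Groth.L27.Fppf.Lim
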