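import Groth.Agent.L27.Fppf.Descent

/-! # The big etale sheaf satisfies descent along submersive covering families -/

universe u

open CategoryTheory CategoryTheory.Limits AlgebraicGeometry Opposite

set_option backward.isDefEq.respectTransparency.types false
set_option linter.style.haveILetI false

namespace Groth.L27.Fppf

variable {S : Scheme.{u}} (F : EtCoh.Ab S)

/-- A sieve is submersive when its arrows are jointly surjective and detect open sets. -/
def IsSubmersiveSieve {T : Over S} (R : Sieve T) : Prop :=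
  (∀ t : T.left, ∃ (Y : Over S) (g : Y ⟶ T) (y : Y.left), R g ∧ g.left y = t) ∧
    ∀ W : Set T.left, (∀ (Y : Over S) (g : Y ⟶ T), R g → IsOpen (g.left ⁻¹' W)) → IsOpen W

theorem ZeroNear.map {T T' : Over S} (g : T' ⟶ T) (x : (G F).obj.obj (op T)) (t' : T'.left)
    (hx : ZeroNear F x (g.left t')) : ZeroNear F ((G F).obj.map g.op x) t' := by
  obtain ⟨T₁, h, t₁, hh, ht₁, hx⟩ := hx
  obtain ⟨Q, a, b, hab, hQ, -⟩ := exists_pullback g h
  obtain ⟨q, hq, -⟩ := Scheme.exists_preimage_of_isPullback hQ t' t₁ ht₁.symm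
  haveI := hh
  exact ⟨Q, a, q, MorphismProperty.of_isPullback (P := EtCoh.etaleMP.{u}) hQ.flip hh, hq, by
    rw [map_comp', hab, ← map_comp', hx, map_zero]⟩

theorem isOpen_zeroNear {T : Over S} (x : (G F).obj.obj (op T)) : IsOpen {t | ZeroNear F x t} := by
  refine isOpen_iff_forall_mem_open.2 ?_
  rintro _ ⟨T', g, t', hg, rfl, hx⟩
  haveI := hg
  exact ⟨Set.range g.left, by rintro _ ⟨z, rfl⟩; exact ⟨T', g, z, hg, rfl, hx⟩, g.left.isOpenMap.isOpen_range,
    t', rfl⟩

variable {F}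

theorem fam_congr {C : Type*} [Category C] {P : Cᵒᵖ ⥤ Type (u + 1)} {T Y : C} {R : Presieve T}
    (fam : Presieve.FamilyOfElements P R) {g g' : Y ⟶ T} (h : g = g') (hg : R g) (hg' : R g') :
    fam g hg = fam g' hg' := by
  subst h; rfl

variable {J : GrothendieckTopology (Over S)}
  (hJ : ∀ (T : Over S) (R : Sieve T), R ∈ J T → IsSubmersiveSieve R)

include hJ in
/-- Sections vanishing on a covering vanish. -/
theorem eq_of_submersive {T : Over S} {R : Sieve T} (hR : R ∈ J T) (x y : (G F).obj.obj (op T))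
    (h : ∀ (Y : Over S) (g : Y ⟶ T), R g → (G F).obj.map g.op x = (G F).obj.map g.op y) : x = y := by
  rw [← sub_eq_zero]
  refine eq_zero_of_zeroNear F _ fun t => ?_
  obtain ⟨Y, g, y₀, hg, rfl⟩ := (hJ T R hR).1 t
  exact ZeroNear.of_map F g _ y₀ (zeroNear_of_eq_zero F _ (by rw [map_sub, h Y g hg, sub_self]) y₀)

include hJ in
theorem isSheaf_of_submersive : Presheaf.IsSheaf J (G F).obj := by
  rw [Presheaf.isSheaf_iff_isSheaf_forget J (G F).obj (forget AddCommGrpCat.{u + 1}),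
    isSheaf_iff_isSheaf_of_type]
  intro T R hR fam hfam
  have hcomp : ∀ {Y Z : Over S} (k : Z ⟶ Y) (g : Y ⟶ T) (hg : R g),
      (G F).obj.map k.op (fam g hg) = fam (k ≫ g) (R.downward_closed hg k) := fun k g hg =>
    ((Presieve.compatible_iff_sieveCompatible fam).1 hfam g k hg).symm
  let Ok : ∀ {T₁ : Over S} (_ : T₁ ⟶ T), (G F).obj.obj (op T₁) → Prop := fun {T₁} h y =>
    ∀ (Z : Over S) (k : Z ⟶ T₁) (hk : R (k ≫ h)), (G F).obj.map k.op y = fam (k ≫ h) hk
  let Sv : Sieve T :=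
    { arrows := fun T₁ h => ∃ y, Ok h y
      downward_closed := fun {T₁ T₂ h} ⟨y, hy⟩ i => ⟨(G F).obj.map i.op y, fun Z k hk => by
        have hk' : R ((k ≫ i) ≫ h) := by rwa [Category.assoc]
        rw [map_comp', hy Z (k ≫ i) hk']
        congr 1⟩ }
  have huniq : ∀ {T₁ : Over S} (h : T₁ ⟶ T) (y y' : (G F).obj.obj (op T₁)), Ok h y → Ok h y' → y = y' :=
    fun h y y' hy hy' => eq_of_submersive hJ (J.pullback_stable h hR) y y' fun Z k hk =>
      (hy Z k hk).trans (hy' Z k hk).symm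
  have hcov : Sv ∈ Jet S T := by
    refine mem_Jet.2 fun t => ?_
    obtain ⟨Y, g, y₀, hg, rfl⟩ := (hJ T R hR).1 t
    obtain ⟨T₁, h, t₁, U, c, s, hh, ht₁, hs⟩ := exists_e F (fam g hg) y₀
    obtain ⟨P, p, q, -, hP, hlift⟩ := exists_pullback (C := Over.mk (𝟙 S)) (Over.homMk T.hom (Category.comp_id _))
      (Over.homMk (U := (EtFppf.a S).obj U) U.hom (Category.comp_id _))
    haveI : AlgebraicGeometry.Etale p.left :=
      MorphismProperty.of_isPullback (P := EtCoh.etaleMP.{u}) hP.flip U.prop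
    obtain ⟨m, hm, hm'⟩ := hlift T₁ (h ≫ g) c (Over.OverMorphism.ext ((Over.w (h ≫ g)).trans (Over.w c).symm))
    -- `d k`: the family minus the pullback of `s` over `Z ⟶ P`
    let d : ∀ {Z : Over S} (k : Z ⟶ P), R (k ≫ p) → (G F).obj.obj (op Z) := fun {Z} k hk =>
      HSub.hSub (α := (G F).obj.obj (op Z)) (β := (G F).obj.obj (op Z)) (fam (k ≫ p) hk) (e F (k ≫ q) s)
    have hd : ∀ {Z Z' : Over S} (i : Z' ⟶ Z) (k : Z ⟶ P) (hk : R (k ≫ p)) (hik : R ((i ≫ k) ≫ p)),
        (G F).obj.map i.op (d k hk) = d (i ≫ k) hik := fun {Z Z'} i k hk hik => by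
      simp only [d]
      rw [map_sub, hcomp, e_map]
      congr 1
      all_goals first | (congr 1; exact (Category.assoc _ _ _).symm) | (congr 1; exact Category.assoc _ _ _) | simp only [Category.assoc]
    let W : Set P.left :=
      {a | ∀ (Z : Over S) (k : Z ⟶ P) (hk : R (k ≫ p)) (z : Z.left), k.left z = a → ZeroNear F (d k hk) z}
    have hsat : ∀ (Z : Over S) (k : Z ⟶ P) (hk : R (k ≫ p)) (z : Z.left), ZeroNear F (d k hk) z → k.left z ∈ W := by
      intro Z k hk z hz Z' k' hk' z' hz'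
      obtain ⟨Q, a, b, hab, hQ, -⟩ := exists_pullback k k'
      obtain ⟨w, hw, hw'⟩ := Scheme.exists_preimage_of_isPullback hQ z z' hz'.symm
      rw [← hw']
      refine ZeroNear.of_map F b _ w ?_
      have h1 : R ((a ≫ k) ≫ p) := by rw [Category.assoc]; exact R.downward_closed hk a
      have h2 : R ((b ≫ k') ≫ p) := hab ▸ h1
      rw [hd b k' hk' h2, show d (b ≫ k') h2 = d (a ≫ k) h1 by congr 1; exact hab.symm, ← hd a k hk h1]
      exact ZeroNear.map F a _ w (hw ▸ hz)
    have hW : IsOpen W := by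
      refine (hJ P _ (J.pullback_stable p hR)).2 W fun Z k hk => ?_
      have hk' : R (k ≫ p) := hk
      rw [show k.left ⁻¹' W = {z | ZeroNear F (d k hk') z} from
        Set.ext fun z => ⟨fun hz => hz Z k hk' z rfl, fun hz => hsat Z k hk' z hz⟩]
      exact isOpen_zeroNear F _
    let O : P.left.Opens := ⟨W, hW⟩
    have hgm : R (m ≫ p) := hm ▸ R.downward_closed hg h
    have hO : m.left t₁ ∈ O := by
      refine hsat T₁ m hgm t₁ (zeroNear_of_eq_zero F _ ?_ t₁)
      simp only [d]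
      rw [sub_eq_zero, hm', ← hs, hcomp]
      congr 1
    let W₀ : Over S := Over.mk (O.ι ≫ P.hom)
    let ι : W₀ ⟶ P := Over.homMk O.ι rfl
    refine ⟨W₀, ι ≫ p, ⟨m.left t₁, hO⟩, ⟨e F (ι ≫ q) s, fun Z k hk => ?_⟩,
      inferInstanceAs (AlgebraicGeometry.Etale (O.ι ≫ p.left)), ?_⟩
    · symm
      rw [← sub_eq_zero]
      refine eq_zero_of_zeroNear F _ fun z => ?_
      have hk' : R ((k ≫ ι) ≫ p) := by rwa [Category.assoc]
      have h0 : ZeroNear F (d (k ≫ ι) hk') z := (k.left z).2 Z (k ≫ ι) hk' z (comp_left_apply k ι z)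
      simp only [d] at h0
      rw [e_map, show k ≫ ι ≫ q = (k ≫ ι) ≫ q from (Category.assoc _ _ _).symm]
      rw [fam_congr fam (show k ≫ ι ≫ p = (k ≫ ι) ≫ p from (Category.assoc _ _ _).symm) hk hk']
      exact h0
    · refine (comp_left_apply ι p _).trans ?_
      show p.left (m.left t₁) = _
      rw [← comp_left_apply m p, hm, comp_left_apply, ht₁]
  have hG := (isSheaf_iff_isSheaf_of_type _ _).1
    ((Presheaf.isSheaf_iff_isSheaf_forget (Jet S) (G F).obj (forget AddCommGrpCat.{u + 1})).1 (G F).property) Sv hcov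
  let fam' : Presieve.FamilyOfElements ((G F).obj ⋙ forget AddCommGrpCat.{u + 1}) Sv.arrows :=
    fun T₁ h hh => hh.choose
  have hfam' : fam'.Compatible := by
    refine (Presieve.compatible_iff_sieveCompatible fam').2 fun T₁ T₂ h i hh => ?_
    refine huniq (i ≫ h) _ _ (Sv.downward_closed hh i).choose_spec fun Z k hk => ?_
    have hk' : R ((k ≫ i) ≫ h) := by rwa [Category.assoc]
    refine (map_comp' F k i _).trans ((hh.choose_spec Z (k ≫ i) hk').trans ?_)
    congr 1
  obtain ⟨y, hy, -⟩ := hG fam' hfam'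
  have hyR : ∀ (Y : Over S) (g : Y ⟶ T) (hg : R g), (G F).obj.map g.op y = fam g hg := by
    intro Y g hg
    rw [← sub_eq_zero]
    refine eq_zero_of_zeroNear F _ fun y₀ => ?_
    obtain ⟨T₁, h, t₁, hh, -, ht₁⟩ := mem_Jet.1 hcov (g.left y₀)
    obtain ⟨Z, a, b, hab, hZ, -⟩ := exists_pullback g h
    obtain ⟨z, hz, -⟩ := Scheme.exists_preimage_of_isPullback hZ y₀ t₁ ht₁.symm
    rw [← hz]
    refine ZeroNear.of_map F a _ z (zeroNear_of_eq_zero F _ ?_ z)
    have hbh : R (b ≫ h) := hab ▸ R.downward_closed hg a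
    rw [map_sub, sub_eq_zero, map_comp', hab, ← map_comp',
      show (G F).obj.map h.op y = hh.choose from hy h hh, hh.choose_spec Z b hbh, hcomp]
    congr 1
    exact hab.symm
  exact ⟨y, hyR, fun y' hy' => eq_of_submersive hJ hR y' y fun Y g hg => (hy' g hg).trans (hyR Y g hg).symm⟩

end Groth.L27.Fppf
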